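import Mathlib
import Cfsg.Agent.Lib.CIT.IsolatedTwo

/-!
# Groups in which no prime divides three distinct element orders
-/

set_option autoImplicit false
set_option linter.unusedSectionVars false
set_option linter.style.haveILetI false

namespace CfsgLib.ThreeOrders

/-- No prime divides three pairwise distinct element orders. -/
def TO (G : Type*) [Group G] : Prop :=
  ∀ p : ℕ, p.Prime → ∀ a b c : G, orderOf a ≠ orderOf b → orderOf b ≠ orderOf c →
    orderOf a ≠ orderOf c → ¬ (p ∣ orderOf a ∧ p ∣ orderOf b ∧ p ∣ orderOf c)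

/-- Even order elements are involutions or of order `2 q`, and `q` only divides the orders `q`, `2 q`. -/
structure TwoQ (G : Type*) [Group G] (q : ℕ) : Prop where
  prime : q.Prime
  ne_two : q ≠ 2
  two : ∀ g : G, 2 ∣ orderOf g → orderOf g = 2 ∨ orderOf g = 2 * q
  qq : ∀ g : G, q ∣ orderOf g → orderOf g = q ∨ orderOf g = 2 * q
  mix : ∃ g : G, orderOf g = 2 * q

variable {G : Type*} [Group G] [Finite G]

theorem exists_order {g : G} {d : ℕ} (h : d ∣ orderOf g) : ∃ x : G, orderOf x = d :=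
  ⟨g ^ (orderOf g / d), orderOf_pow_orderOf_div (orderOf_pos g).ne' h⟩

theorem exists_order_quotient {N : Subgroup G} [N.Normal] (y : G ⧸ N) :
    ∃ x : G, orderOf x = orderOf y := by
  obtain ⟨g, rfl⟩ := QuotientGroup.mk_surjective y
  exact exists_order (orderOf_map_dvd (QuotientGroup.mk' N) g)

theorem TO.of_orders (h : TO G) {H : Type*} [Group H]
    (hH : ∀ y : H, ∃ x : G, orderOf x = orderOf y) : TO H := by
  intro p hp a b c hab hbc hac
  obtain ⟨x, hx⟩ := hH a
  obtain ⟨y, hy⟩ := hH b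
  obtain ⟨z, hz⟩ := hH c
  rw [← hx, ← hy] at hab
  rw [← hy, ← hz] at hbc
  rw [← hx, ← hz] at hac
  rw [← hx, ← hy, ← hz]
  exact h p hp x y z hab hbc hac

theorem TO.quotient (h : TO G) (N : Subgroup G) [N.Normal] : TO (G ⧸ N) :=
  h.of_orders exists_order_quotient

theorem TO.subgroup (h : TO G) (H : Subgroup G) : TO H :=
  h.of_orders fun y => ⟨y, Subgroup.orderOf_coe y⟩

theorem TO.comp_eq (h : TO G) {p : ℕ} (hp : p.Prime) {a b : G} (ha : p ∣ orderOf a)
    (hb : p ∣ orderOf b) : orderOf a = p ∨ orderOf b = p ∨ orderOf a = orderOf b := by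
  by_contra hc
  push Not at hc
  obtain ⟨x, hx⟩ := exists_order ha
  exact h p hp x a b (by rw [hx]; exact hc.1.symm) hc.2.2 (by rw [hx]; exact hc.2.1.symm)
    ⟨hx ▸ dvd_refl p, ha, hb⟩

theorem TO.order_cases (h : TO G) (x : G) :
    orderOf x = 1 ∨ (orderOf x).Prime ∨
      ∃ p q : ℕ, p.Prime ∧ q.Prime ∧ orderOf x = p * q := by
  by_cases h1 : orderOf x = 1
  · exact Or.inl h1
  obtain ⟨p, hp, hd⟩ := Nat.exists_prime_and_dvd h1
  obtain ⟨m, hm⟩ := hd
  rcases eq_or_ne m 1 with rfl | hm1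
  · exact Or.inr (Or.inl (by rwa [hm, mul_one]))
  obtain ⟨q, hq, hqm⟩ := Nat.exists_prime_and_dvd hm1
  obtain ⟨y, hy⟩ := exists_order (g := x) (d := p * q) (hm ▸ Nat.mul_dvd_mul_left p hqm)
  refine Or.inr (Or.inr ⟨p, q, hp, hq, ?_⟩)
  rcases h.comp_eq hp (a := x) (b := y) (hm ▸ dvd_mul_right p m) (hy ▸ dvd_mul_right p q) with e | e | e
  · rw [hm] at e
    exact absurd (Nat.eq_of_mul_eq_mul_left hp.pos (e.trans (mul_one p).symm)) hm1
  · rw [hy] at e
    exact absurd (Nat.eq_of_mul_eq_mul_left hp.pos (e.trans (mul_one p).symm)) hq.one_lt.ne'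
  · exact e.trans hy

theorem TO.cases (h : TO G) : CIT.IsCIT G ∨ ∃ q, TwoQ G q := by
  by_cases hex : ∃ q : ℕ, q.Prime ∧ q ≠ 2 ∧ ∃ x : G, orderOf x = 2 * q
  · obtain ⟨q, hq, hq2, x, hx⟩ := hex
    refine Or.inr ⟨q, hq, hq2, fun g hg => ?_, fun g hg => ?_, x, hx⟩
    · rcases h.comp_eq Nat.prime_two hg (hx ▸ dvd_mul_right 2 q) with e | e | e
      · exact Or.inl e
      · rw [hx] at e
        exact absurd (show q = 1 by omega) hq.one_lt.ne'
      · exact Or.inr (e.trans hx)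
    · rcases h.comp_eq hq hg (hx ▸ dvd_mul_left q 2) with e | e | e
      · exact Or.inl e
      · rw [hx] at e
        have := hq.pos
        omega
      · exact Or.inr (e.trans hx)
  · push Not at hex
    exact Or.inl (CIT.isCIT_of_no_two_mul fun r hr hr2 x => hex r hr hr2 x)

theorem TwoQ.odd {q : ℕ} (h : TwoQ G q) : Odd q := h.prime.odd_of_ne_two h.ne_two

/-- No elements of order four. -/
theorem TwoQ.two_elt {q : ℕ} (h : TwoQ G q) {g : G} {k : ℕ} (hg : g ^ 2 ^ k = 1) : g * g = 1 := by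
  obtain ⟨j, -, hj⟩ := (Nat.dvd_prime_pow Nat.prime_two).mp (orderOf_dvd_of_pow_eq_one hg)
  rcases j with _ | j
  · rw [pow_zero, orderOf_eq_one_iff] at hj
    rw [hj, one_mul]
  rcases h.two g (hj ▸ dvd_pow_self 2 (Nat.succ_ne_zero j)) with e | e
  · rw [← pow_two, ← e, pow_orderOf_eq_one]
  · have hd : q ∣ 2 ^ (j + 1) := hj ▸ e ▸ dvd_mul_left q 2
    exact absurd ((Nat.prime_dvd_prime_iff_eq h.prime Nat.prime_two).mp
      (h.prime.dvd_of_dvd_pow hd)) h.ne_two

theorem TwoQ.mem_mul_self {q : ℕ} (h : TwoQ G q) {P : Subgroup G} (hP : IsPGroup 2 P) {g : G}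
    (hg : g ∈ P) : g * g = 1 := by
  obtain ⟨k, hk⟩ := hP ⟨g, hg⟩
  exact h.two_elt (congrArg Subtype.val hk)

theorem TwoQ.mem_comm {q : ℕ} (h : TwoQ G q) {P : Subgroup G} (hP : IsPGroup 2 P) {a b : G}
    (ha : a ∈ P) (hb : b ∈ P) : Commute a b := by
  have e1 := h.mem_mul_self hP (mul_mem ha hb)
  have ea : a⁻¹ = a := inv_eq_of_mul_eq_one_right (h.mem_mul_self hP ha)
  have eb : b⁻¹ = b := inv_eq_of_mul_eq_one_right (h.mem_mul_self hP hb)
  calc a * b = (a * b)⁻¹ := (inv_eq_of_mul_eq_one_right e1).symm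
    _ = b * a := by rw [mul_inv_rev, ea, eb]

theorem TwoQ.commute_two {q : ℕ} (h : TwoQ G q) {t x : G} (ht : orderOf t = 2) {s : ℕ}
    (hs : s.Prime) (hs2 : s ≠ 2) (hx : orderOf x = s) (hc : Commute t x) : s = q := by
  have ho : orderOf (t * x) = 2 * s := by
    rw [hc.orderOf_mul_eq_mul_orderOf_of_coprime, ht, hx]
    rw [ht, hx]
    exact Nat.coprime_two_left.mpr (hs.odd_of_ne_two hs2)
  rcases h.two (t * x) (ho ▸ dvd_mul_right 2 s) with e | e
  · rw [ho] at e
    have := hs.one_lt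
    omega
  · rw [ho] at e
    exact Nat.eq_of_mul_eq_mul_left two_pos e

end CfsgLib.ThreeOrders
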