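import Mathlib

/-!
# Norm identities for an automorphism acting freely on an operator group
-/

set_option autoImplicit false
set_option linter.unusedSectionVars false
set_option linter.style.haveILetI false

open Finset
open scoped IsMulCommutative

namespace CfsgLib.ThreeOrders

variable {G : Type*} [Group G]

/-- For a commutative normal subgroup `A`, the power of `v * y` is the norm of `v` times `y ^ n`. -/
theorem pow_mul_eq_norm {A : Subgroup G} [A.Normal] [IsMulCommutative A] (v : A) (y : G) (n : ℕ) :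
    ((v : G) * y) ^ n =
      ((∏ i ∈ range n, MulAut.conjNormal (H := A) (y ^ i) v : A) : G) * y ^ n := by
  induction n with
  | zero => simp
  | succ n ih =>
    rw [Finset.prod_range_succ, Subgroup.coe_mul, MulAut.conjNormal_apply, pow_succ, ih, pow_succ]
    group

variable {A : Type*} [CommGroup A]

/-- If every conjugate of `x` under the operator group `T` has trivial norm on `A` and the powers
of `x` act freely on `T`, then `T` acts trivially on `A`, provided the orders are coprime. -/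
theorem centralizes_of_norm [Finite A] (φ : G →* MulAut A) (x : G) (k : ℕ) (hk : 0 < k)
    (T : Subgroup G) [Finite T] (hn : ∀ c ∈ T, x * c * x⁻¹ ∈ T)
    (hfix : ∀ i, 0 < i → i < k → ∀ c ∈ T, x ^ i * c * (x ^ i)⁻¹ = c → c = 1)
    (hν : ∀ b ∈ T, ∀ a : A, ∏ i ∈ range k, φ (b * x ^ i * b⁻¹) a = 1)
    (hco : (Nat.card A).Coprime (Nat.card T)) {c : G} (hc : c ∈ T) (a : A) : φ c a = a := by
  classical
  haveI := Fintype.ofFinite T
  have hpow : ∀ i : ℕ, ∀ c ∈ T, x ^ i * c * (x ^ i)⁻¹ ∈ T := by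
    intro i
    induction i with
    | zero => intro c hc; simpa using hc
    | succ i ih =>
      intro c hc
      rw [pow_succ', show x * x ^ i * c * (x * x ^ i)⁻¹ = x * (x ^ i * c * (x ^ i)⁻¹) * x⁻¹ by group]
      exact hn _ (ih c hc)
  let N : A → A := fun a => ∏ b : T, φ (b : G) a
  have hNmul : ∀ (s : Finset ℕ) (f : ℕ → A), N (∏ i ∈ s, f i) = ∏ i ∈ s, N (f i) := by
    intro s f
    show ∏ b : T, φ (b : G) (∏ i ∈ s, f i) = ∏ i ∈ s, ∏ b : T, φ (b : G) (f i)
    rw [Finset.prod_comm]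
    exact Finset.prod_congr rfl fun b _ => map_prod (φ (b : G)) f s
  have hP : ∀ i, 0 < i → i < k → ∀ a : A,
      ∏ b : T, φ ((b : G) * x ^ i * (b : G)⁻¹) a = N (φ (x ^ i) a) := by
    intro i hi hik a
    let f : T → T := fun b => b * ⟨x ^ i * (b : G)⁻¹ * (x ^ i)⁻¹, hpow i _ (inv_mem b.2)⟩
    have hf : Function.Bijective f := by
      refine Finite.injective_iff_bijective.mp fun b b' h => ?_
      have h' : (b : G) * (x ^ i * (b : G)⁻¹ * (x ^ i)⁻¹) =
          (b' : G) * (x ^ i * (b' : G)⁻¹ * (x ^ i)⁻¹) := congrArg Subtype.val h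
      have h2 := hfix i hi hik ((b' : G)⁻¹ * b) (mul_mem (inv_mem b'.2) b.2) (by
        calc x ^ i * ((b' : G)⁻¹ * b) * (x ^ i)⁻¹
            = (b' : G)⁻¹ * ((b' : G) * (x ^ i * (b' : G)⁻¹ * (x ^ i)⁻¹)) *
                (x ^ i * (b : G) * (x ^ i)⁻¹) := by group
          _ = (b' : G)⁻¹ * b := by rw [← h']; group)
      exact Subtype.ext (inv_mul_eq_one.mp h2).symm
    show _ = ∏ b : T, φ (b : G) (φ (x ^ i) a)
    rw [← hf.prod_comp (fun b : T => φ (b : G) (φ (x ^ i) a))]
    refine Finset.prod_congr rfl fun b _ => ?_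
    show φ ((b : G) * x ^ i * (b : G)⁻¹) a =
      φ ((b : G) * (x ^ i * (b : G)⁻¹ * (x ^ i)⁻¹)) (φ (x ^ i) a)
    rw [← MulAut.mul_apply, ← map_mul]
    congr 2
    group
  have hsplit : ∀ g : ℕ → A, ∏ i ∈ range k, g i = g 0 * ∏ i ∈ Finset.Ico 1 k, g i := fun g => by
    rw [Finset.range_eq_Ico, Finset.prod_eq_prod_Ico_succ_bot hk]
  have h1 : a ^ Nat.card T * ∏ i ∈ Finset.Ico 1 k, N (φ (x ^ i) a) = 1 := by
    have h0 : ∏ b : T, ∏ i ∈ range k, φ ((b : G) * x ^ i * (b : G)⁻¹) a = 1 :=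
      Finset.prod_eq_one fun b _ => hν b b.2 a
    rw [Finset.prod_comm, hsplit] at h0
    rw [← h0]
    congr 1
    · simp [Nat.card_eq_fintype_card]
    · exact Finset.prod_congr rfl fun i hi => by
        rw [Finset.mem_Ico] at hi
        exact (hP i hi.1 hi.2 a).symm
  have h2 : N a * ∏ i ∈ Finset.Ico 1 k, N (φ (x ^ i) a) = 1 := by
    have e := hν 1 T.one_mem a
    simp only [one_mul, inv_one, mul_one] at e
    have h0 := hNmul (range k) fun i => φ (x ^ i) a
    rw [e, hsplit] at h0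
    have hN1 : N (1 : A) = 1 := Finset.prod_eq_one fun b _ => map_one _
    rw [hN1] at h0
    simpa using h0.symm
  have hNa : φ c (N a) = N a := by
    show φ c (∏ b : T, φ (b : G) a) = ∏ b : T, φ (b : G) a
    rw [map_prod]
    refine Fintype.prod_equiv (Equiv.mulLeft (⟨c, hc⟩ : T)) _ _ fun b => ?_
    show φ c (φ (b : G) a) = φ (((⟨c, hc⟩ : T) * b : T) : G) a
    rw [← MulAut.mul_apply, ← map_mul]
    rfl
  rw [show N a = a ^ Nat.card T from mul_right_cancel (h2.trans h1.symm), map_pow] at hNa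
  exact (powCoprime hco).injective hNa

end CfsgLib.ThreeOrders
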