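import Mathlib
import Cfsg.Agent.Lib.ThreeOrders.Basic
import Cfsg.Agent.Lib.ThreeOrders.Norm
import Cfsg.Agent.Lib.Transfer.Basic
import Cfsg.Agent.S0144

/-!
# No normal subgroup of odd order, and trivial `2`-core in the mixed case
-/

set_option autoImplicit false
set_option linter.unusedSectionVars false
set_option linter.style.haveILetI false

open scoped IsMulCommutative

namespace CfsgLib.ThreeOrders

universe u

variable {G : Type u} [Group G] [Finite G]

theorem exists_abelian_normal {N : Subgroup G} [N.Normal] (hN : Group.IsSolvable N) (hN1 : N ≠ ⊥) :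
    ∃ (r : ℕ) (A : Subgroup G), r.Prime ∧ A.Normal ∧ A ≠ ⊥ ∧ A ≤ N ∧ IsPGroup r A ∧
      IsMulCommutative A := by
  haveI : Nontrivial N := (Subgroup.nontrivial_iff_ne_bot N).2 hN1
  obtain ⟨r, hr, V, hVn, hV1, hVr, -⟩ := CfsgLib.Hall.exists_normal_pgroup_ne_bot (G := N)
  haveI := Fact.mk hr
  haveI : (Cfsg.pCore r N).Characteristic := PSolvable.pCore_characteristic r
  set W := (Cfsg.pCore r N).map N.subtype with hW
  haveI hWn : W.Normal := CIT.normal_map_of_characteristic _
  have hWr : IsPGroup r W := (Fitting.pCore_isPGroup r).map _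
  haveI : Nontrivial W := by
    refine (Subgroup.nontrivial_iff_ne_bot W).2 fun e => ?_
    rw [hW, Subgroup.map_eq_bot_iff_of_injective _ N.subtype_injective] at e
    exact hV1 (le_bot_iff.mp ((Fitting.le_pCore hVn hVr).trans e.le))
  have hne : (Subgroup.center W).map W.subtype ≠ ⊥ := by
    rw [Ne, Subgroup.map_eq_bot_iff_of_injective _ W.subtype_injective]
    exact (Subgroup.nontrivial_iff_ne_bot _).mp hWr.center_nontrivial
  refine ⟨r, _, hr, CIT.normal_map_of_characteristic _, hne,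
    (Subgroup.map_subtype_le _).trans (Subgroup.map_subtype_le _),
    hWr.to_le (Subgroup.map_subtype_le _), ⟨⟨?_⟩⟩⟩
  rintro ⟨_, a, ha, rfl⟩ ⟨_, b, -, rfl⟩
  exact Subtype.ext (congrArg Subtype.val (Subgroup.mem_center_iff.mp ha b)).symm

theorem solvable_of_complement {p : ℕ} [hp : Fact p.Prime] (hp2 : p = 2) {K : Subgroup G}
    [K.Normal] {P : Sylow p G} (h : K.IsComplement' (P : Subgroup G)) : Group.IsSolvable G := by
  subst hp2
  refine RealClassGraph.solvable_of_normal K (RealClassGraph.solvable_of_odd ?_)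
    (CIT.isSolvable_of_two ?_)
  · rw [← Nat.not_even_iff_odd, even_iff_two_dvd, ← h.index_eq_card]
    exact P.not_dvd_index
  · obtain ⟨k, hk⟩ := P.2.exists_card_eq
    exact IsPGroup.of_card (n := k) (by rw [← Subgroup.index_eq_card, h.symm.index_eq_card, hk])

/-- In a non-solvable group a Sylow `2`-subgroup has two distinct involutions, if it has exponent two. -/
theorem exists_two_invol {q : ℕ} (h : TwoQ G q) (hns : ¬ Group.IsSolvable G) (T : Sylow 2 G) :
    ∃ a ∈ (T : Subgroup G), ∃ b ∈ (T : Subgroup G),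
      orderOf a = 2 ∧ orderOf b = 2 ∧ orderOf (a * b) = 2 ∧ Commute a b := by
  classical
  haveI : Fact (Nat.Prime 2) := ⟨Nat.prime_two⟩
  have hord : ∀ g ∈ (T : Subgroup G), g ≠ 1 → orderOf g = 2 := fun g hg hg1 =>
    CIT.orderOf_two (h.mem_mul_self T.2 hg) hg1
  suffices hh : ∃ a ∈ (T : Subgroup G), ∃ b ∈ (T : Subgroup G), a ≠ 1 ∧ b ≠ 1 ∧ a ≠ b by
    obtain ⟨a, ha, b, hb, ha1, hb1, hab⟩ := hh
    refine ⟨a, ha, b, hb, hord a ha ha1, hord b hb hb1, hord _ (mul_mem ha hb) fun e => hab ?_,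
      h.mem_comm T.2 ha hb⟩
    rw [mul_eq_one_iff_eq_inv.mp e, inv_eq_of_mul_eq_one_right (h.mem_mul_self T.2 hb)]
  by_contra hno
  push Not at hno
  have hcen : Subgroup.normalizer (T : Set G) ≤ Subgroup.centralizer (T : Set G) := by
    intro n hn
    rw [Subgroup.mem_centralizer_iff]
    intro g hg
    by_cases hg1 : g = 1
    · simp [hg1]
    have hcg : n * g * n⁻¹ ∈ (T : Subgroup G) := (Subgroup.mem_normalizer_iff.mp hn g).mp hg
    have e := hno g hg _ hcg hg1 (fun e => hg1 (conj_eq_one_iff.mp e))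
    exact (mul_inv_eq_iff_eq_mul.mp e.symm).symm
  obtain ⟨P, K, hKn, hK⟩ := Transfer.hasNormalPComplement_of_normalizer_le_centralizer T hcen
  haveI := hKn
  exact hns (solvable_of_complement rfl hK)

/-- An elementary abelian four-group acting on a group with trivial odd-order fixed points. -/
theorem exists_fixed {A : Subgroup G} [A.Normal] [IsMulCommutative A] (hA : Odd (Nat.card A))
    (hA1 : A ≠ ⊥) {a b : G} (ha : orderOf a = 2) (hb : orderOf b = 2) (hab : orderOf (a * b) = 2) :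
    ∃ t : G, orderOf t = 2 ∧ ∃ v ∈ A, v ≠ 1 ∧ Commute t v := by
  by_contra hno
  push Not at hno
  have hinv : ∀ t : G, orderOf t = 2 → ∀ v ∈ A, t * v * t⁻¹ = v⁻¹ := by
    intro t ht v hv
    have htt : t * t = 1 := by rw [← pow_two, ← ht, pow_orderOf_eq_one]
    have hti : t⁻¹ = t := inv_eq_of_mul_eq_one_right htt
    have hw : t * v * t⁻¹ ∈ A := ‹A.Normal›.conj_mem v hv t
    have hcomm : (t * v * t⁻¹) * v = v * (t * v * t⁻¹) :=
      congrArg Subtype.val (mul_comm (⟨_, hw⟩ : A) ⟨v, hv⟩)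
    rw [hti] at hcomm
    have hfix : Commute t (v * (t * v * t⁻¹)) := by
      show t * (v * (t * v * t⁻¹)) = v * (t * v * t⁻¹) * t
      rw [hti]
      calc t * (v * (t * v * t)) = (t * v * t * v) * t := by group
        _ = v * (t * v * t) * t := by rw [hcomm]
    by_contra hne
    exact hno t ht _ (mul_mem hv hw) (fun e => hne (mul_eq_one_iff_eq_inv'.mp e)) hfix
  obtain ⟨v, hv, hv1⟩ := (Subgroup.bot_or_exists_ne_one A).resolve_left hA1
  have h1 := hinv a ha v hv
  have h2 := hinv b hb v hv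
  have h3 := hinv _ hab v hv
  have e : v⁻¹ = v := by
    rw [← h3, show a * b * v * (a * b)⁻¹ = a * (b * v * b⁻¹) * a⁻¹ by group, h2,
      show a * v⁻¹ * a⁻¹ = (a * v * a⁻¹)⁻¹ by group, h1, inv_inv]
  exact hv1 (CIT.eq_one_of_odd_two (k := 1)
    (hA.of_dvd_nat (A.orderOf_dvd_natCard hv)) (by rw [pow_one, pow_two]; nth_rewrite 1 [← e]; group))

/-- Commutators of `T` with elements of prime order centralise a normal abelian `q`-subgroup. -/
theorem commutator_mem_centralizer {q : ℕ} (h : TwoQ G q) {A : Subgroup G} [A.Normal]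
    [IsMulCommutative A] (hA : IsPGroup q A) (T : Sylow 2 G) {x : G} {s : ℕ} (hs : s.Prime)
    (hs2 : s ≠ 2) (hx : orderOf x = s) (hxn : x ∈ Subgroup.normalizer (T : Set G)) {a : G}
    (ha : a ∈ (T : Subgroup G)) :
    x * a * x⁻¹ * a⁻¹ ∈ Subgroup.centralizer (A : Set G) := by
  classical
  have hTn : ∀ g ∈ (T : Subgroup G), x * g * x⁻¹ ∈ (T : Subgroup G) := fun g hg =>
    (Subgroup.mem_normalizer_iff.mp hxn g).mp hg
  let d : ↥(T : Subgroup G) → G := fun a => x * a * x⁻¹ * (a : G)⁻¹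
  have hdT : ∀ a, d a ∈ (T : Subgroup G) := fun a => mul_mem (hTn a a.2) (inv_mem a.2)
  let D : Subgroup G :=
    { carrier := {g | ∃ a : ↥(T : Subgroup G), d a = g}
      mul_mem' := by
        rintro g g' ⟨a, rfl⟩ ⟨b, rfl⟩
        refine ⟨a * b, ?_⟩
        show x * ((a : G) * b) * x⁻¹ * ((a : G) * b)⁻¹ = d a * d b
        have hc : (a : G)⁻¹ * d b = d b * (a : G)⁻¹ :=
          h.mem_comm T.2 (inv_mem a.2) (hdT b)
        calc x * ((a : G) * b) * x⁻¹ * ((a : G) * b)⁻¹
            = x * a * x⁻¹ * (d b * (a : G)⁻¹) := by simp only [d]; group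
          _ = x * a * x⁻¹ * ((a : G)⁻¹ * d b) := by rw [hc]
          _ = d a * d b := by simp only [d]; group
      one_mem' := ⟨1, by simp [d]⟩
      inv_mem' := by
        rintro g ⟨a, rfl⟩
        refine ⟨a, ?_⟩
        exact (inv_eq_of_mul_eq_one_right (h.mem_mul_self T.2 (hdT a))).symm }
  have hDT : D ≤ (T : Subgroup G) := by
    rintro g ⟨a, rfl⟩
    exact hdT a
  have hn : ∀ c ∈ D, x * c * x⁻¹ ∈ D := by
    rintro c ⟨a, rfl⟩
    exact ⟨⟨x * a * x⁻¹, hTn a a.2⟩, by simp only [d]; group⟩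
  have hfix1 : ∀ c ∈ D, Commute x c → c = 1 := by
    rintro c ⟨⟨a, haT⟩, rfl⟩ hc
    set c := d ⟨a, haT⟩ with hcdef
    have hj : ∀ j : ℕ, x ^ j * a * (x ^ j)⁻¹ = c ^ j * a := by
      intro j
      induction j with
      | zero => simp
      | succ j ih =>
        rw [pow_succ', show x * x ^ j * a * (x * x ^ j)⁻¹ = x * (x ^ j * a * (x ^ j)⁻¹) * x⁻¹ by group,
          ih, show x * (c ^ j * a) * x⁻¹ = (x * c ^ j * x⁻¹) * (x * a * x⁻¹) by group,
          (hc.pow_right j).eq, mul_inv_cancel_right,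
          show x * a * x⁻¹ = c * a by rw [hcdef]; simp only [d]; group, pow_succ]
        group
    have e := hj s
    rw [← hx, pow_orderOf_eq_one] at e
    simp only [one_mul, inv_one, mul_one] at e
    have e' : c ^ orderOf x = 1 := mul_eq_right.mp e.symm
    have h2 : c ^ 2 = 1 := by rw [pow_two]; exact h.mem_mul_self T.2 (hdT _)
    have := pow_gcd_eq_one.mpr ⟨e', h2⟩
    rwa [Nat.coprime_iff_gcd_eq_one.mp (Nat.coprime_two_right.mpr (hx ▸ hs.odd_of_ne_two hs2)),
      pow_one] at this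
  have hco : (Nat.card A).Coprime (Nat.card D) := by
    haveI : Fact (Nat.Prime 2) := ⟨Nat.prime_two⟩
    haveI := Fact.mk h.prime
    obtain ⟨i, hi⟩ := hA.exists_card_eq
    obtain ⟨j, hj⟩ := (T.2.to_le hDT).exists_card_eq
    rw [hi, hj]
    exact ((Nat.coprime_primes h.prime Nat.prime_two).mpr h.ne_two).pow i j
  have hν : ∀ b ∈ D, ∀ v : A,
      ∏ i ∈ Finset.range s, MulAut.conjNormal (H := A) (b * x ^ i * b⁻¹) v = 1 := by
    intro b hb v
    set y := b * x * b⁻¹ with hy
    have hyo : orderOf y = s := by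
      rw [hy, show b * x * b⁻¹ = MulAut.conj b x from rfl, MulEquiv.orderOf_eq, hx]
    simp only [← conj_pow, ← hy]
    set z := ∏ i ∈ Finset.range s, MulAut.conjNormal (H := A) (y ^ i) v with hz
    have hvy : ((v : G) * y) ^ s = (z : G) := by
      rw [pow_mul_eq_norm v y s, ← hz]
      conv_lhs => rw [← hyo, pow_orderOf_eq_one, mul_one]
    obtain ⟨k, hk⟩ := hA z
    have hk' : (z : G) ^ q ^ k = 1 := congrArg Subtype.val hk
    by_contra hz1
    have hz1' : (z : G) ≠ 1 := fun e => hz1 (Subtype.ext e)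
    obtain ⟨l, -, hl⟩ := (Nat.dvd_prime_pow h.prime).mp (orderOf_dvd_of_pow_eq_one hk')
    have hl0 : l ≠ 0 := by
      rintro rfl
      rw [pow_zero, orderOf_eq_one_iff] at hl
      exact hz1' hl
    have hzq : orderOf (z : G) = q := by
      rcases h.qq (z : G) (hl ▸ dvd_pow_self q hl0) with e | e
      · exact e
      · have h2 : 2 ∣ q ^ l := hl ▸ e ▸ dvd_mul_right 2 q
        exact absurd ((Nat.prime_dvd_prime_iff_eq Nat.prime_two h.prime).mp
          (Nat.prime_two.dvd_of_dvd_pow h2)).symm h.ne_two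
    rcases eq_or_ne s q with hsq | hsq
    · -- `v * y` has order dividing `q`
      have h1 : ((v : G) * y) ^ (q * q) = 1 := by
        rw [pow_mul, ← hsq, hvy, hsq, ← hzq, pow_orderOf_eq_one]
      obtain ⟨m, -, hm⟩ := (Nat.dvd_prime_pow h.prime).mp
        (orderOf_dvd_of_pow_eq_one (show ((v : G) * y) ^ q ^ 2 = 1 by rwa [pow_two]))
      rcases m with _ | m
      · rw [pow_zero, orderOf_eq_one_iff] at hm
        rw [hm, one_pow] at hvy
        exact hz1' hvy.symm
      rcases h.qq _ (hm ▸ dvd_pow_self q (Nat.succ_ne_zero m)) with e | e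
      · rw [hsq, ← e, pow_orderOf_eq_one] at hvy
        exact hz1' hvy.symm
      · have h2 : 2 ∣ q ^ (m + 1) := hm ▸ e ▸ dvd_mul_right 2 q
        exact h.ne_two ((Nat.prime_dvd_prime_iff_eq Nat.prime_two h.prime).mp
          (Nat.prime_two.dvd_of_dvd_pow h2)).symm
    · have hcv : Commute (v : G) (z : G) := congrArg Subtype.val (mul_comm v z)
      have hcy : Commute y (z : G) := by
        have h1 : Commute ((v : G) * y) (z : G) := hvy ▸ Commute.self_pow _ s
        have h2 := hcv.inv_left.mul_left h1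
        rwa [inv_mul_cancel_left] at h2
      have ho : orderOf (y * (z : G)) = s * q := by
        rw [hcy.orderOf_mul_eq_mul_orderOf_of_coprime, hyo, hzq]
        rw [hyo, hzq]
        exact (Nat.coprime_primes hs h.prime).mpr hsq
      rcases h.qq _ (ho ▸ dvd_mul_left q s) with e | e
      · rw [ho] at e
        have := hs.one_lt
        have := h.prime.one_lt
        nlinarith
      · rw [ho] at e
        exact hs2 (Nat.eq_of_mul_eq_mul_right h.prime.pos e)
  have hfix : ∀ i, 0 < i → i < s → ∀ c ∈ D, x ^ i * c * (x ^ i)⁻¹ = c → c = 1 := by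
    intro i hi his c hc e
    refine hfix1 c hc ?_
    have hci : Commute (x ^ i) c := mul_inv_eq_iff_eq_mul.mp e
    have hcop : i.Coprime (orderOf x) := by
      rw [hx]
      exact ((hs.coprime_iff_not_dvd).mpr fun hd => absurd (Nat.le_of_dvd hi hd) (by omega)).symm
    obtain ⟨m, hm⟩ := exists_pow_eq_self_of_coprime hcop
    rw [← hm]
    exact hci.pow_left m
  rw [Subgroup.mem_centralizer_iff]
  intro w hw
  have e := congrArg Subtype.val (centralizes_of_norm (MulAut.conjNormal (H := A)) x s hs.pos D hn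
    hfix hν hco (show x * a * x⁻¹ * a⁻¹ ∈ D from ⟨⟨a, ha⟩, rfl⟩) ⟨w, hw⟩)
  rw [MulAut.conjNormal_apply] at e
  exact (mul_inv_eq_iff_eq_mul.mp e).symm

/-- Frattini for a Sylow subgroup in a quotient. -/
theorem exists_normalizer_lift {p : ℕ} [Fact p.Prime] (T : Sylow p G) {C : Subgroup G} [C.Normal]
    {y : G} (hy : ∀ t ∈ (T : Subgroup G), y * t * y⁻¹ ∈ (T : Subgroup G) ⊔ C) :
    ∃ n ∈ Subgroup.normalizer (T : Set G), n⁻¹ * y ∈ (T : Subgroup G) ⊔ C := by
  set M := (T : Subgroup G) ⊔ C with hM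
  have hTM : (T : Subgroup G) ≤ M := le_sup_left
  have hle : ((y • T : Sylow p G) : Subgroup G) ≤ M := by
    rintro _ ⟨t, ht, rfl⟩
    exact hy t ht
  obtain ⟨m, hm⟩ := MulAction.exists_smul_eq M (Sylow.subtype _ hle) (T.subtype hTM)
  have hmT : ((m : G) * y) • T = T := by
    rw [Sylow.smul_subtype] at hm
    have h := Sylow.subtype_injective (hP := Sylow.smul_le hle m) (hQ := hTM) hm
    rw [mul_smul]
    exact h
  refine ⟨(m : G) * y, Sylow.smul_eq_iff_mem_normalizer.mp hmT, ?_⟩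
  rw [mul_inv_rev, mul_assoc, show y⁻¹ * ((m : G)⁻¹ * y) = y⁻¹ * (m : G)⁻¹ * y⁻¹⁻¹ by group]
  have hyM : ∀ g ∈ M, y * g * y⁻¹ ∈ M := fun g hg => by
    have : M.map (MulAut.conj y).toMonoidHom ≤ M := by
      rw [hM, Subgroup.map_sup]
      refine sup_le ?_ (le_sup_of_le_right ?_)
      · rintro _ ⟨t, ht, rfl⟩
        exact hy t ht
      · rintro _ ⟨c, hc, rfl⟩
        exact ‹C.Normal›.conj_mem c hc y
    exact this ⟨g, hg, rfl⟩
  have heq : M.map (MulAut.conj y).toMonoidHom = M :=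
    Subgroup.eq_of_le_of_card_ge (fun g ⟨k, hk, e⟩ => e ▸ hyM k hk)
      (le_of_eq (Subgroup.card_map_of_injective (MulAut.conj y).injective).symm)
  obtain ⟨k, hk, e⟩ := (Subgroup.ext_iff.mp heq _).mpr (inv_mem m.2)
  rw [inv_inv, ← e]
  show y⁻¹ * (y * k * y⁻¹) * y ∈ M
  simpa [mul_assoc] using hk

set_option maxHeartbeats 1000000 in
/-- No nontrivial normal subgroup of odd order. -/
theorem odd_normal_eq_bot {q : ℕ} (hTO : TO G) (h : TwoQ G q) (hns : ¬ Group.IsSolvable G)
    {N : Subgroup G} [N.Normal] (hN : Odd (Nat.card N)) : N = ⊥ := by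
  classical
  by_contra hN1
  haveI : Fact (Nat.Prime 2) := ⟨Nat.prime_two⟩
  obtain ⟨r, A, hr, hAn, hA1, hAN, hAr, hAc⟩ :=
    exists_abelian_normal (RealClassGraph.solvable_of_odd hN) hN1
  haveI := hAn
  haveI := hAc
  haveI := Fact.mk hr
  have hAodd : Odd (Nat.card A) := hN.of_dvd_nat (Subgroup.card_dvd_of_le hAN)
  obtain ⟨T⟩ : Nonempty (Sylow 2 G) := inferInstance
  obtain ⟨a, -, b, -, ha, hb, hab, -⟩ := exists_two_invol h hns T
  obtain ⟨t, ht, v, hvA, hv1, htv⟩ := exists_fixed hAodd hA1 ha hb hab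
  -- reduce to `r = q`
  obtain ⟨k, hk⟩ := hAr ⟨v, hvA⟩
  obtain ⟨j, hj1, hvo⟩ := exists_orderOf_prime hr hk hv1
  have hr2 : r ≠ 2 := by
    rintro rfl
    exact hv1 (CIT.eq_one_of_odd_two (hAodd.of_dvd_nat (A.orderOf_dvd_natCard hvA))
      (congrArg Subtype.val hk))
  obtain rfl : r = q := h.commute_two ht hr hr2 hvo (htv.pow_right j)
  set C := Subgroup.centralizer (A : Set G) with hC
  haveI : C.Normal := ⟨fun c hc g => Subgroup.mem_centralizer_iff.mpr fun w hw => by
    have e := Subgroup.mem_centralizer_iff.mp hc _ (hAn.conj_mem w hw g⁻¹)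
    rw [inv_inv] at e
    calc w * (g * c * g⁻¹) = g * (g⁻¹ * w * g * c) * g⁻¹ := by group
      _ = g * (c * (g⁻¹ * w * g)) * g⁻¹ := by rw [e]
      _ = g * c * g⁻¹ * w := by group⟩
  -- the normalizer of `T` centralizes it modulo `C`
  have hK : ∀ n ∈ Subgroup.normalizer (T : Set G), ∀ a ∈ (T : Subgroup G),
      n * a * n⁻¹ * a⁻¹ ∈ C := by
    have hmul : ∀ n m : G, m ∈ Subgroup.normalizer (T : Set G) →
        (∀ a ∈ (T : Subgroup G), n * a * n⁻¹ * a⁻¹ ∈ C) →
        (∀ a ∈ (T : Subgroup G), m * a * m⁻¹ * a⁻¹ ∈ C) →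
        ∀ a ∈ (T : Subgroup G), n * m * a * (n * m)⁻¹ * a⁻¹ ∈ C := by
      intro n m hm hn hm' a ha
      have h1 := hn _ ((Subgroup.mem_normalizer_iff.mp hm a).mp ha)
      have h2 := hm' a ha
      convert mul_mem h1 h2 using 1
      group
    have hpr : ∀ s : ℕ, s.Prime → ∀ x ∈ Subgroup.normalizer (T : Set G), orderOf x = s →
        ∀ a ∈ (T : Subgroup G), x * a * x⁻¹ * a⁻¹ ∈ C := by
      intro s hs x hx hxo a ha
      rcases eq_or_ne s 2 with rfl | hs2
      · have hxT : x ∈ (T : Subgroup G) :=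
          RealClassGraph.mem_sylow_of_two_element T ⟨1, by rw [pow_one, ← hxo, pow_orderOf_eq_one]⟩ hx
        rw [show x * a = a * x from h.mem_comm T.2 hxT ha]
        simpa using C.one_mem
      · exact commutator_mem_centralizer h hAr T hs hs2 hxo hx ha
    intro n hn
    rcases hTO.order_cases n with e | e | ⟨p₁, p₂, hp₁, hp₂, e⟩
    · rw [orderOf_eq_one_iff] at e
      intro a ha
      simp [e]
    · exact hpr _ e n hn rfl
    rcases eq_or_ne p₁ p₂ with rfl | hne
    · -- order `p²`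
      intro a ha
      have hp2 : p₁ ≠ 2 := by
        rintro rfl
        rcases h.two n (e ▸ dvd_mul_right 2 2) with e' | e' <;> rw [e] at e'
        · omega
        · exact h.ne_two (by omega)
      have hq1 : p₁ ≠ r := by
        rintro rfl
        rcases h.qq n (e ▸ dvd_mul_right p₁ p₁) with e' | e' <;> rw [e] at e'
        · nlinarith [hp₁.one_lt]
        · exact hp2 (Nat.eq_of_mul_eq_mul_right hp₁.pos e')
      have hxo : orderOf (n ^ p₁) = p₁ := by
        rw [orderOf_pow_of_dvd hp₁.ne_zero (e ▸ dvd_mul_right p₁ p₁), e,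
          Nat.mul_div_cancel _ hp₁.pos]
      set x := n ^ p₁
      have hx : x ∈ Subgroup.normalizer (T : Set G) := pow_mem hn p₁
      have hfree : ∀ c ∈ (T : Subgroup G), x * c * x⁻¹ = c → c = 1 := by
        intro c hc hfix
        by_contra hc1
        exact hq1 (h.commute_two (CIT.orderOf_two (h.mem_mul_self T.2 hc) hc1) hp₁ hp2 hxo
          (mul_inv_eq_iff_eq_mul.mp hfix).symm)
      let f : ↥(T : Subgroup G) → ↥(T : Subgroup G) := fun c =>
        ⟨x * c * x⁻¹ * (c : G)⁻¹,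
          mul_mem ((Subgroup.mem_normalizer_iff.mp hx c).mp c.2) (inv_mem c.2)⟩
      have hf : Function.Surjective f := by
        refine Finite.injective_iff_surjective.mp fun c c' hcc => ?_
        have e1 : x * c * x⁻¹ * (c : G)⁻¹ = x * c' * x⁻¹ * (c' : G)⁻¹ := congrArg Subtype.val hcc
        have := hfree ((c' : G)⁻¹ * c) (mul_mem (inv_mem c'.2) c.2) (by
          calc x * ((c' : G)⁻¹ * c) * x⁻¹
              = (x * c' * x⁻¹)⁻¹ * (x * c * x⁻¹ * (c : G)⁻¹) * c := by group
            _ = _ := by rw [e1]; group)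
        exact Subtype.ext (inv_mul_eq_one.mp this).symm
      have hTC : ∀ c ∈ (T : Subgroup G), c ∈ C := fun c hc => by
        obtain ⟨d, hd⟩ := hf ⟨c, hc⟩
        rw [show c = x * d * x⁻¹ * (d : G)⁻¹ from (congrArg Subtype.val hd).symm]
        exact hpr p₁ hp₁ x hx hxo d d.2
      exact mul_mem (hTC _ ((Subgroup.mem_normalizer_iff.mp hn a).mp ha)) (inv_mem (hTC a ha))
    · have hco : Nat.Coprime p₁ p₂ := (Nat.coprime_primes hp₁ hp₂).mpr hne
      have hc : ((Nat.gcdA p₁ p₂ * (p₁ : ℤ)) + (p₂ : ℤ) * Nat.gcdB p₁ p₂) = 1 := by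
        have := Nat.gcd_eq_gcd_ab p₁ p₂
        rw [hco.gcd_eq_one] at this
        push_cast at this
        linarith [this]
      have hn' : n = (n ^ p₁) ^ Nat.gcdA p₁ p₂ * (n ^ p₂) ^ Nat.gcdB p₁ p₂ := by
        rw [← zpow_natCast, ← zpow_natCast n p₂, ← zpow_mul, ← zpow_mul, ← zpow_add,
          mul_comm (p₁ : ℤ), hc, zpow_one]
      have hgen : ∀ (p p' : ℕ), p'.Prime → orderOf n = p * p' → 0 < p → ∀ i : ℤ,
          ∀ a ∈ (T : Subgroup G), (n ^ p) ^ i * a * ((n ^ p) ^ i)⁻¹ * a⁻¹ ∈ C := by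
        intro p p' hp' e' hp i
        have ho : orderOf (n ^ p) = p' := by
          rw [orderOf_pow_of_dvd hp.ne' (e' ▸ dvd_mul_right p p'), e', Nat.mul_div_cancel_left _ hp]
        by_cases h1 : (n ^ p) ^ i = 1
        · intro a ha
          simp [h1]
        refine hpr p' hp' _ (zpow_mem (pow_mem hn p) i) ?_
        have hd : orderOf ((n ^ p) ^ i) ∣ p' := by
          apply orderOf_dvd_of_pow_eq_one
          rw [← zpow_natCast, ← zpow_mul, mul_comm, zpow_mul, zpow_natCast, ← ho, pow_orderOf_eq_one,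
            one_zpow]
        rcases (Nat.dvd_prime hp').mp hd with e1 | e1
        · exact absurd (orderOf_eq_one_iff.mp e1) h1
        · exact e1
      rw [hn']
      exact hmul _ _ (zpow_mem (pow_mem hn p₂) _) (hgen p₁ p₂ hp₂ e hp₁.pos _)
        (hgen p₂ p₁ hp₁ (e.trans (mul_comm _ _)) hp₂.pos _)
  -- so `G / C` has a normal `2`-complement
  have hsol : Group.IsSolvable (G ⧸ C) := by
    set π := QuotientGroup.mk' C
    set Tb := T.mapSurjective (QuotientGroup.mk'_surjective C) with hTb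
    have hTbc : (Tb : Subgroup (G ⧸ C)) = (T : Subgroup G).map π := rfl
    have hcen : Subgroup.normalizer (Tb : Set (G ⧸ C)) ≤ Subgroup.centralizer (Tb : Set (G ⧸ C)) := by
      intro yb hyb
      obtain ⟨y, rfl⟩ := QuotientGroup.mk_surjective yb
      have hy : ∀ t ∈ (T : Subgroup G), y * t * y⁻¹ ∈ (T : Subgroup G) ⊔ C := by
        intro t ht
        have h1 := (Subgroup.mem_normalizer_iff.mp hyb (t : G ⧸ C)).mp
          (hTbc ▸ Subgroup.mem_map_of_mem π ht)
        rw [hTbc] at h1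
        obtain ⟨t', ht', e⟩ := h1
        have e' : t'⁻¹ * (y * t * y⁻¹) ∈ C := (QuotientGroup.eq).mp (by
          rw [QuotientGroup.mk_mul, QuotientGroup.mk_mul, QuotientGroup.mk_inv]; exact e)
        have := mul_mem (Subgroup.mem_sup_left (T := C) ht') (Subgroup.mem_sup_right (S := (T : Subgroup G)) e')
        rwa [mul_inv_cancel_left] at this
      obtain ⟨n, hn, hnm⟩ := exists_normalizer_lift T hy
      rw [sup_comm] at hnm
      obtain ⟨c, hc, t, ht, hct⟩ := Subgroup.mem_sup_of_normal_left.mp hnm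
      have hyb' : (y : G ⧸ C) = ((n * t : G) : G ⧸ C) := by
        rw [show y = n * c * t by rw [mul_assoc, hct, mul_inv_cancel_left],
          QuotientGroup.mk_mul, QuotientGroup.mk_mul, QuotientGroup.mk_mul,
          (QuotientGroup.eq_one_iff c).mpr hc, mul_one]
      rw [hyb', Subgroup.mem_centralizer_iff]
      rintro g hg
      replace hg : g ∈ (T : Subgroup G).map π := hg
      obtain ⟨a, ha, rfl⟩ := hg
      have h1 := hK n hn a ha
      have e : (n : G ⧸ C) * a = a * n := by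
        have h2 : ((n * a * n⁻¹ * a⁻¹ : G) : G ⧸ C) = 1 := (QuotientGroup.eq_one_iff _).mpr h1
        rw [QuotientGroup.mk_mul, QuotientGroup.mk_mul, QuotientGroup.mk_mul, QuotientGroup.mk_inv,
          QuotientGroup.mk_inv, mul_inv_eq_one, mul_inv_eq_iff_eq_mul] at h2
        exact h2
      have et : (t : G ⧸ C) * a = a * t := by
        rw [← QuotientGroup.mk_mul, ← QuotientGroup.mk_mul, (h.mem_comm T.2 ht ha).eq]
      show (a : G ⧸ C) * ((n * t : G) : G ⧸ C) = ((n * t : G) : G ⧸ C) * a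
      rw [QuotientGroup.mk_mul, ← mul_assoc, ← e, mul_assoc, ← et, mul_assoc]
    obtain ⟨P, K, hKn, hKP⟩ := Transfer.hasNormalPComplement_of_normalizer_le_centralizer Tb hcen
    haveI := hKn
    exact solvable_of_complement rfl hKP
  have hCns : ¬ Group.IsSolvable C := fun hs => hns (RealClassGraph.solvable_of_normal C hs hsol)
  -- a third prime in `C`
  obtain ⟨s, hs, hs2, hsr, hsd⟩ : ∃ s : ℕ, s.Prime ∧ s ≠ 2 ∧ s ≠ r ∧ s ∣ Nat.card C := by
    by_contra hno
    push Not at hno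
    refine hCns (Cfsg.Agent.S0144.result 2 r ((Nat.card C).factorization 2)
      ((Nat.card C).factorization r) Nat.prime_two hr ?_)
    have h0 : Nat.card C ≠ 0 := Nat.card_pos.ne'
    refine Nat.eq_of_factorization_eq h0 (mul_ne_zero (pow_ne_zero _ two_ne_zero)
      (pow_ne_zero _ hr.ne_zero)) fun p => ?_
    rw [Nat.factorization_mul (pow_ne_zero _ two_ne_zero) (pow_ne_zero _ hr.ne_zero),
      Nat.prime_two.factorization_pow, hr.factorization_pow, Finsupp.add_apply,
      Finsupp.single_apply, Finsupp.single_apply]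
    rcases eq_or_ne p 2 with rfl | hp2
    · simp [hr2]
    rcases eq_or_ne p r with rfl | hpr
    · simp [Ne.symm hp2]
    · simp only [Ne.symm hp2, Ne.symm hpr, ↓reduceIte, add_zero]
      by_cases hp : p.Prime
      · exact Nat.factorization_eq_zero_of_not_dvd (hno p hp hp2 hpr)
      · exact Nat.factorization_eq_zero_of_not_prime _ hp
  haveI := Fact.mk hs
  obtain ⟨⟨x, hxC⟩, hxo⟩ := exists_prime_orderOf_dvd_card' s hsd
  rw [Subgroup.orderOf_mk] at hxo
  have hxv : Commute x v := (Subgroup.mem_centralizer_iff.mp hxC v hvA).symm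
  have hcom : Commute x (v ^ j) := hxv.pow_right j
  have ho : orderOf (x * v ^ j) = s * r := by
    rw [hcom.orderOf_mul_eq_mul_orderOf_of_coprime, hxo, hvo]
    rw [hxo, hvo]
    exact (Nat.coprime_primes hs hr).mpr hsr
  rcases h.qq _ (ho ▸ dvd_mul_left r s) with e' | e' <;> rw [ho] at e'
  · have := hs.one_lt
    have := hr.one_lt
    nlinarith
  · exact hs2 (Nat.eq_of_mul_eq_mul_right hr.pos e')
where
  exists_orderOf_prime {r : ℕ} (hr : r.Prime) {A : Subgroup G} {v : G} {hv : v ∈ A} {k : ℕ}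
      (hk : (⟨v, hv⟩ : A) ^ r ^ k = 1) (hv1 : v ≠ 1) : ∃ j, j ≠ 0 ∧ orderOf (v ^ j) = r := by
    obtain ⟨l, -, hl⟩ := (Nat.dvd_prime_pow hr).mp
      (orderOf_dvd_of_pow_eq_one (congrArg Subtype.val hk : v ^ r ^ k = 1))
    rcases l with _ | l
    · rw [pow_zero, orderOf_eq_one_iff] at hl
      exact absurd hl hv1
    refine ⟨r ^ l, pow_ne_zero _ hr.ne_zero, ?_⟩
    rw [orderOf_pow_of_dvd (pow_ne_zero _ hr.ne_zero) (hl ▸ pow_dvd_pow r l.le_succ), hl,
      pow_succ, Nat.mul_div_cancel_left _ (pow_pos hr.pos l)]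

end CfsgLib.ThreeOrders
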