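import Mathlib
import Cfsg.Agent.Lib.ThreeOrders.Basic
import Cfsg.Agent.Lib.CIT.Socle
import Cfsg.Agent.Lib.CIT.Iso
import Cfsg.Agent.Lib.CIT.PSLTwoGraph
import Cfsg.Agent.Lib.CNStruct.Outer
import Cfsg.Agent.Lib.EPPO.Simple
import Cfsg.Agent.Lib.OneToFive.Outer
import Cfsg.Agent.Lib.BrauerTuan.Identify
import Cfsg.Agent.Lib.Suzuki.LieEquiv
import Cfsg.Agent.Lib.Suzuki.Structure
import Cfsg.Agent.S0254
import Cfsg.Agent.S2475

/-!
# The groups with isolated prime two and trivial two-core
-/

set_option autoImplicit false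
set_option linter.unusedSectionVars false
set_option linter.style.haveILetI false

open scoped MatrixGroups

namespace CfsgLib.ThreeOrders

open CfsgLib.Suzuki (Gp Param)

universe u

variable {G : Type u} [Group G] [Finite G]

/-- No element has order eight. -/
theorem TO.no_eight (h : TO G) (x : G) : orderOf x ≠ 8 := by
  intro hx
  have h4 : orderOf (x ^ 2) = 4 := by
    rw [orderOf_pow_of_dvd two_ne_zero (by rw [hx]; norm_num), hx]
  have h2 : orderOf (x ^ 4) = 2 := by
    rw [orderOf_pow_of_dvd (by norm_num) (by rw [hx]; norm_num), hx]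
  exact h 2 Nat.prime_two x (x ^ 2) (x ^ 4) (by rw [hx, h4]; omega) (by rw [h4, h2]; omega)
    (by rw [hx, h2]; omega) ⟨by rw [hx]; norm_num, by rw [h4]; norm_num, by rw [h2]⟩

/-- Element orders are products of at most two primes. -/
theorem TO.length_le (h : TO G) (x : G) : (orderOf x).primeFactorsList.length ≤ 2 := by
  rcases h.order_cases x with e | hp | ⟨p, q, hp, hq, e⟩
  · rw [e, Nat.primeFactorsList_one]
    simp
  · rw [Nat.primeFactorsList_prime hp]
    simp
  · rw [e, (Nat.perm_primeFactorsList_mul hp.ne_zero hq.ne_zero).length_eq, List.length_append,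
      Nat.primeFactorsList_prime hp, Nat.primeFactorsList_prime hq]
    simp

/-- An element of even order is a `2`-element. -/
theorem even_two_pow (hcit : CIT.IsCIT G) {g : G} (hg : 2 ∣ orderOf g) :
    ∃ k, orderOf g = 2 ^ k := by
  refine ⟨_, Nat.eq_prime_pow_of_unique_prime_dvd (orderOf_pos g).ne' fun {r} hr hd =>
    by_contra fun hne => ?_⟩
  obtain ⟨y, hy⟩ := exists_order (g := g) (d := 2 * r)
    (((Nat.coprime_primes Nat.prime_two hr).mpr (Ne.symm hne)).mul_dvd_of_dvd_of_dvd hg hd)
  exact hcit.no_two_mul hr hne y hy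

/-- An element of even order satisfies `g ^ 4 = 1`. -/
theorem pow_four_eq_one (hTO : TO G) (hcit : CIT.IsCIT G) {g : G} (hg : 2 ∣ orderOf g) :
    g ^ 4 = 1 := by
  obtain ⟨k, hk⟩ := even_two_pow hcit hg
  rw [← orderOf_dvd_iff_pow_eq_one, hk, show (4 : ℕ) = 2 ^ 2 from rfl]
  refine Nat.pow_dvd_pow 2 (Nat.le_of_not_lt fun hlt => ?_)
  obtain ⟨y, hy⟩ := exists_order (g := g) (d := 8) (by
    rw [hk, show (8 : ℕ) = 2 ^ 3 from rfl]
    exact Nat.pow_dvd_pow 2 hlt)
  exact hTO.no_eight y hy

/-- Outside a normal subgroup of 2-power index all orders are even. -/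
theorem two_dvd_of_not_mem {L : Subgroup G} [L.Normal]
    (hidx : ∀ r : ℕ, r.Prime → r ≠ 2 → ¬ r ∣ L.index) {g : G} (hg : g ∉ L) : 2 ∣ orderOf g := by
  obtain ⟨r, hr, hd⟩ := Nat.exists_prime_and_dvd (n := orderOf (g : G ⧸ L))
    fun e => hg ((QuotientGroup.eq_one_iff g).mp (orderOf_eq_one_iff.mp e))
  have hd' : r ∣ L.index := hd.trans (Subgroup.index_eq_card L ▸ orderOf_dvd_natCard _)
  obtain rfl : r = 2 := by_contra fun hne => hidx r hr hne hd'
  exact hd.trans (orderOf_map_dvd (QuotientGroup.mk' L) g)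

/-- An automorphism that is inner or fixes a pair of coprime non-commuting elements lies below `L`. -/
theorem mem_of_pair {M : Type*} [Group M] (hcit : CIT.IsCIT G) (L : Subgroup G) [L.Normal]
    (hidx : ∀ r : ℕ, r.Prime → r ≠ 2 → ¬ r ∣ L.index) (e : L ≃* M) (g : G)
    (hC : Subgroup.centralizer (L : Set G) = ⊥)
    (h : CNStruct.IsInn (CNStruct.induced L e g) ∨ CNStruct.HasPair (CNStruct.induced L e g)) :
    g ∈ L := by
  rcases h with ⟨k, hk⟩ | h
  · have : ((e.symm k : L) : G)⁻¹ * g ∈ Subgroup.centralizer (L : Set G) := by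
      rw [Subgroup.mem_centralizer_iff]
      intro l hl
      have h := CNStruct.induced_apply L e g (e ⟨l, hl⟩)
      rw [hk, MulAut.conj_apply, map_mul, map_mul, map_inv, e.symm_apply_apply] at h
      simp only [Subgroup.coe_mul, Subgroup.coe_inv] at h
      set c := ((e.symm k : L) : G)
      calc l * (c⁻¹ * g) = c⁻¹ * (c * l * c⁻¹) * g := by group
        _ = c⁻¹ * g * l := by rw [h]; group
    rw [hC, Subgroup.mem_bot, inv_mul_eq_one] at this
    exact this ▸ (e.symm k).2
  obtain ⟨k, x, y, hx, hy, hcop, hne⟩ := h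
  by_contra hg
  set c := ((e.symm k : L) : G)
  have hd : 2 ∣ orderOf (c * g) := two_dvd_of_not_mem hidx fun hm =>
    hg ((L.mul_mem_cancel_left (e.symm k).2).mp hm)
  have hto : orderOf ((c * g) ^ (orderOf (c * g) / 2)) = 2 :=
    orderOf_pow_orderOf_div (orderOf_pos _).ne' hd
  set t := (c * g) ^ (orderOf (c * g) / 2)
  have hfix : ∀ z, k * CNStruct.induced L e g z * k⁻¹ = z → Commute ((e.symm z : L) : G) t := by
    intro z hz
    have h := CNStruct.induced_apply L e g z
    have h' : c * ((e.symm (CNStruct.induced L e g z) : L) : G) * c⁻¹ = (e.symm z : L) := by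
      have := congrArg (fun w => ((e.symm w : L) : G)) hz
      simpa [c] using this
    rw [h] at h'
    refine Commute.pow_right ?_ _
    rw [Commute, SemiconjBy]
    nth_rw 1 [← h']
    group
  have ht2 : t * t = 1 := by rw [← pow_two, ← hto, pow_orderOf_eq_one]
  have ht1 : t ≠ 1 := fun e1 => by simp [e1] at hto
  have hodd : ∀ z, Commute ((e.symm z : L) : G) t → Odd (orderOf z) → z = 1 := fun z hc ho => by
    have := hcit.eq_one ht2 ht1 hc
      (by rw [Subgroup.orderOf_coe, MulEquiv.orderOf_eq]; exact ho)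
    exact e.symm.injective ((Subtype.ext this).trans (map_one e.symm).symm)
  rcases Nat.even_or_odd (orderOf x) with he | ho
  · have hoy : Odd (orderOf y) := Nat.odd_iff.mpr (Nat.two_dvd_ne_zero.mp fun hy2 => by
      have h22 := Nat.dvd_gcd he.two_dvd hy2
      rw [Nat.Coprime.gcd_eq_one hcop] at h22
      omega)
    rw [hodd y (hfix y hy) hoy] at hne
    simp at hne
  · rw [hodd x (hfix x hx) ho] at hne
    simp at hne

/-- The quotients by the two-core. -/
def Shape (G : Type u) [Group G] : Prop :=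
  (∃ (F : Type) (_ : Field F) (_ : Fintype F) (n : ℕ), 2 ≤ n ∧ Fintype.card F = 2 ^ n ∧
      Nonempty (G ≃* PSL(2, F))) ∨
    (∃ (F : Type) (_ : Field F) (_ : Fintype F), (Fintype.card F = 7 ∨ Fintype.card F = 9) ∧
      Nonempty (G ≃* PSL(2, F))) ∨
    (∃ (F : Type) (_ : Field F) (_ : Fintype F), Fintype.card F = 4 ∧ Nonempty (G ≃* PSL(3, F))) ∨
    (∃ (F : Type) (_ : Field F) (_ : Fintype F) (_ : CharP F 2) (m : ℕ) (_ : Param F m),
      Nonempty (G ≃* Gp F m))

theorem shape_of_cit (hTO : TO G) (hcit : CIT.IsCIT G) (hns : ¬ Group.IsSolvable G)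
    (hO : Cfsg.pCore 2 G = ⊥) : Shape G := by
  classical
  haveI : Fact (Nat.Prime 2) := ⟨Nat.prime_two⟩
  obtain ⟨L, hLn, hLs, hLnc, hLC⟩ := CIT.exists_simple_normal hcit hns hO
  haveI := hLn
  haveI := hLs
  have hLns : ¬ Group.IsSolvable L := fun hs => by
    obtain ⟨a, b, hab⟩ := hLnc
    exact hab (IsSimpleGroup.comm_iff_isSolvable.mpr hs a b)
  have hidx : ∀ r : ℕ, r.Prime → r ≠ 2 → ¬ r ∣ L.index := fun r hr hr2 =>
    CIT.not_dvd_index hcit hLnc hr hr2
  have hgood : ∀ {M : Type} [Group M] (e : L ≃* M),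
      (∀ α : MulAut M, CNStruct.IsInn α ∨ CNStruct.HasPair α) → Nonempty (G ≃* M) := fun e h => by
    have htop : L = ⊤ :=
      (Subgroup.eq_top_iff' L).2 fun g => mem_of_pair hcit L hidx e g hLC (h _)
    exact ⟨(Subgroup.topEquiv.symm.trans (MulEquiv.subgroupCongr htop.symm)).trans e⟩
  rcases CIT.classification_iso hLnc (hcit.subgroup L) with
    ⟨F, i1, i2, hF, ⟨e⟩⟩ | ⟨F, i1, i2, hF, ⟨e⟩⟩ | hsz
  · have hq : 4 ≤ Fintype.card F := by
      by_contra hlt
      have h2 : 2 ≤ Fintype.card F := Fintype.one_lt_card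
      have hc := SL2.card_PSL (F := F)
      rw [← Nat.card_congr e.toEquiv, Nat.card_eq_fintype_card (α := F)] at hc
      rcases (show Fintype.card F = 2 ∨ Fintype.card F = 3 by omega) with e2 | e2 <;> rw [e2] at hc <;>
        norm_num at hc
      · exact hLns (Cfsg.Agent.S0144.result 2 3 1 1 Nat.prime_two Nat.prime_three
          (by rw [hc]; norm_num))
      · exact hLns (Cfsg.Agent.S0144.result 2 3 2 1 Nat.prime_two Nat.prime_three (by omega))
    rcases hF with h9 | ⟨n, hn⟩ | ⟨hp, hk⟩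
    · -- degree nine
      haveI : Fact (Nat.Prime 3) := ⟨Nat.prime_three⟩
      haveI : CharP F 3 := charP_of_card_eq_prime_pow (f := 2) (by rw [h9]; norm_num)
      obtain ⟨e6⟩ := Cfsg.Agent.S0254.result h9
      have hspec : OneToFive.Spec G := by
        intro g
        by_cases hg : g ∈ L
        · have h1 : orderOf g ∈ Set.range (orderOf : PSL(2, F) → ℕ) :=
            ⟨e ⟨g, hg⟩, by rw [MulEquiv.orderOf_eq, Subgroup.orderOf_mk]⟩
          rw [Cfsg.Agent.S2475.result 3 hq, Set.mem_ofPred_eq, h9] at h1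
          simp only [← orderOf_dvd_iff_pow_eq_one]
          norm_num at h1
          rcases h1 with h1 | h1 | h1
          · exact Or.inl h1
          · exact Or.inr (Or.inl h1)
          · exact Or.inr (Or.inr h1)
        · exact Or.inr (Or.inl (pow_four_eq_one hTO hcit (two_dvd_of_not_mem hidx hg)))
      have htop : L = ⊤ := by
        refine (Subgroup.eq_top_iff' L).2 fun u => ?_
        by_contra hu
        refine hu (OneToFive.no_outer_two_six hspec (e.trans e6)
          (OneToFive.no_outer_two_six hspec (e.trans e6) ?_))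
        rw [show u * u * (u * u) = u ^ 4 by simp [pow_succ, mul_assoc],
          pow_four_eq_one hTO hcit (two_dvd_of_not_mem hidx hu)]
        exact one_mem L
      exact Or.inr (Or.inl ⟨F, i1, i2, Or.inr h9,
        ⟨(Subgroup.topEquiv.symm.trans (MulEquiv.subgroupCongr htop.symm)).trans e⟩⟩)
    · haveI : CharP F 2 := charP_of_card_eq_prime_pow (f := n) hn
      refine Or.inl ⟨F, i1, i2, n, ?_, hn, hgood e fun α => Or.inr (CNStruct.outer_two_even α)⟩
      by_contra hlt
      have := Nat.pow_le_pow_right two_pos (show n ≤ 1 by omega)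
      omega
    · haveI : Fact (Fintype.card F).Prime := ⟨hp⟩
      haveI : CharP F (Fintype.card F) := charP_of_card_eq_prime (R := F) rfl
      have hne4 : Fintype.card F ≠ 4 := fun h => by rw [h] at hp; norm_num at hp
      obtain ⟨e0⟩ : Nonempty (G ≃* PSL(2, F)) := hgood e fun α =>
        CNStruct.outer_two_prime (p := Fintype.card F) (by omega)
          (Nat.card_eq_fintype_card (α := F)) α
      have h57 : Fintype.card F = 5 ∨ Fintype.card F = 7 := by
        by_contra hcon
        push Not at hcon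
        have hodd : Fintype.card F % 2 = 1 := Nat.odd_iff.mp (hp.odd_of_ne_two (by omega))
        have hg2 : Nat.gcd 2 (Fintype.card F - 1) = 2 := Nat.gcd_eq_left (by omega)
        obtain ⟨k, hk⟩ := hk
        have hk4 : 4 ≤ k := by
          by_contra hlt
          have hne9 : Fintype.card F ≠ 9 := fun h => by rw [h] at hp; norm_num at hp
          interval_cases k <;> norm_num at hk <;> omega
        obtain ⟨j, rfl⟩ : ∃ j, k = j + 4 := ⟨k - 4, by omega⟩
        have h8 : ∃ x : PSL(2, F), orderOf x = 8 := by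
          have : (8 : ℕ) ∈ Set.range (orderOf : PSL(2, F) → ℕ) := by
            rw [Cfsg.Agent.S2475.result (Fintype.card F) hq, Set.mem_ofPred_eq, hg2]
            rcases hk with hk | hk
            · exact Or.inr (Or.inl ⟨2 ^ j, by rw [hk, pow_add]; omega⟩)
            · exact Or.inr (Or.inr ⟨2 ^ j, by rw [hk, pow_add]; omega⟩)
          exact this
        obtain ⟨x, hx⟩ := h8
        exact hTO.no_eight (e0.symm x) ((e0.symm.orderOf_eq x).trans hx)
      rcases h57 with h5 | h7
      · obtain ⟨K, k1, k2, hK, ⟨e5⟩⟩ := EPPO.psl_five_iso h5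
        exact Or.inl ⟨K, k1, k2, 2, le_rfl, by rw [hK]; norm_num, ⟨e0.trans e5⟩⟩
      · exact Or.inr (Or.inl ⟨F, i1, i2, Or.inl h7, ⟨e0⟩⟩)
  · haveI : CharP F 2 := charP_of_card_eq_prime_pow (f := 2) (by rw [hF]; norm_num)
    exact Or.inr (Or.inr (Or.inl ⟨F, i1, i2, hF, hgood e fun α => Or.inr (CNStruct.outer_three_even α)⟩))
  · obtain ⟨F, i1, i2, m, hm, hF, ⟨e⟩⟩ := hsz
    haveI := CfsgLib.Suzuki.charP_two_of_card hF
    haveI : Param F m := ⟨hm, hF⟩
    exact Or.inr (Or.inr (Or.inr ⟨F, i1, i2, inferInstance, m, inferInstance,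
      hgood (e.trans (CfsgLib.Suzuki.lieEquiv F m).symm) fun α => Or.inr (CNStruct.outer_suzuki α)⟩))

end CfsgLib.ThreeOrders
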