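import Mathlib
import Cfsg.Agent.Lib.ThreeOrders.CaseX
import Cfsg.Agent.Lib.ThreeOrders.Norm
import Cfsg.Agent.Lib.CIT.IsolatedTwo
import Cfsg.Agent.Lib.CNStruct.Main

/-!
# The two-core when the prime two is isolated, and the conclusion in that case
-/

set_option autoImplicit false
set_option linter.unusedSectionVars false
set_option linter.style.haveILetI false

open scoped MatrixGroups IsMulCommutative

namespace CfsgLib.ThreeOrders

open CfsgLib.Suzuki (Gp Param)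

universe u

variable {G : Type u} [Group G] [Finite G]

theorem fpf_two (hcit : CIT.IsCIT G) {N : Subgroup G} (hN : IsPGroup 2 N) {x : G}
    (hx : Odd (orderOf x)) (hx1 : x ≠ 1) {q : G} (hq : q ∈ N) (h : x * q * x⁻¹ = q) : q = 1 := by
  by_contra hq1
  refine hx1 (hcit.eq_one_of_centralizes (Q := Subgroup.zpowers q)
    (hN.to_le (Subgroup.zpowers_le.mpr hq)) (fun e => hq1 (Subgroup.zpowers_eq_bot.mp e)) hx ?_)
  rintro _ ⟨k, rfl⟩
  exact (show Commute x q from mul_inv_eq_iff_eq_mul.mp h).zpow_right k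

theorem exists_four_normalizer {F : Type} [Field F] [Fintype F] [CharP F 2] {m : ℕ} [hP : Param F m] :
    ∃ (A : Subgroup (Gp F m)) (y : Gp F m), A ≠ ⊥ ∧ Odd (Nat.card A) ∧ orderOf y = 4 ∧
      (∀ c ∈ A, y * c * y⁻¹ ∈ A) ∧ ∀ u ∈ A, u ≠ 1 → Subgroup.centralizer {u} = A := by
  classical
  haveI : Fact (Nat.Prime 2) := ⟨Nat.prime_two⟩
  obtain ⟨A, hAcyc, hAc, hcent, hN⟩ :=
    CfsgLib.Suzuki.tori F m (2 ^ (2 * m + 1) + 2 ^ (m + 1) + 1) (Or.inl rfl)
  have hodd : Odd (2 ^ (2 * m + 1) + 2 ^ (m + 1) + 1) := by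
    rw [Nat.odd_iff, pow_succ 2 (2 * m), pow_succ 2 m]
    omega
  have hA1 : A ≠ ⊥ := fun e => by
    rw [e, Subgroup.card_bot] at hAc
    have h0 := Nat.two_pow_pos (2 * m + 1)
    generalize 2 ^ (2 * m + 1) = a at *
    generalize 2 ^ (m + 1) = b at *
    omega
  obtain ⟨W⟩ : Nonempty (Sylow 2 ↥(Subgroup.normalizer (A : Set (Gp F m)))) := inferInstance
  have hW : Nat.card (W : Subgroup ↥(Subgroup.normalizer (A : Set (Gp F m)))) = 4 := by
    rw [W.card_eq_multiplicity, hN, Nat.factorization_mul (by norm_num) hodd.pos.ne',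
      Finsupp.add_apply, Nat.factorization_eq_zero_of_not_dvd
        (fun hd => Nat.not_even_iff_odd.mpr hodd (even_iff_two_dvd.mpr hd)),
      show (4 : ℕ) = 2 ^ 2 from rfl, Nat.prime_two.factorization_pow, Finsupp.single_eq_same]
  suffices h : ∃ w : ↥(Subgroup.normalizer (A : Set (Gp F m))), orderOf w = 4 by
    obtain ⟨w, hw⟩ := h
    refine ⟨A, w, hA1, hAc ▸ hodd, (Subgroup.orderOf_coe w).trans hw, fun c hc => ?_, hcent⟩
    exact (Subgroup.mem_normalizer_iff.mp w.2 c).mp hc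
  by_contra hno
  push Not at hno
  have hsq : ∀ w ∈ (W : Subgroup ↥(Subgroup.normalizer (A : Set (Gp F m)))), w * w = 1 := by
    intro w hw
    have hd : orderOf w ∣ 2 ^ 2 := (Subgroup.orderOf_dvd_natCard _ hw).trans (dvd_of_eq hW)
    obtain ⟨i, hi, he⟩ := (Nat.dvd_prime_pow Nat.prime_two).mp hd
    rw [← pow_two, ← orderOf_dvd_iff_pow_eq_one, he]
    rcases Nat.lt_or_ge i 2 with h | h
    · exact Nat.pow_dvd_pow 2 (Nat.le_of_lt_succ h) |>.trans (by norm_num)
    · exact absurd (he.trans (by rw [show i = 2 by omega]; norm_num)) (hno w)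
  haveI := hAcyc
  have hinv : ∀ w ∈ (W : Subgroup ↥(Subgroup.normalizer (A : Set (Gp F m)))), w ≠ 1 →
      ∀ a ∈ A, (w : Gp F m) * a * (w : Gp F m)⁻¹ = a⁻¹ := by
    intro w hw hw1 a ha
    set t : Gp F m := (w : Gp F m) with ht
    have ht2 : t * t = 1 := congrArg Subtype.val (hsq w hw)
    have hti : t⁻¹ = t := inv_eq_of_mul_eq_one_right ht2
    have hta : t * a * t⁻¹ ∈ A := (Subgroup.mem_normalizer_iff.mp w.2 a).mp ha
    by_contra hne
    set b := a * (t * a * t⁻¹) with hb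
    have hbA : b ∈ A := mul_mem ha hta
    have hb1 : b ≠ 1 := fun e => hne (eq_inv_of_mul_eq_one_right e)
    have hab : Commute a (t * a * t⁻¹) := by
      have := IsCyclic.isMulCommutative (α := A)
      exact congrArg Subtype.val (this.is_comm.comm ⟨a, ha⟩ ⟨_, hta⟩)
    have htb : t ∈ Subgroup.centralizer ({b} : Set (Gp F m)) := by
      rw [Subgroup.mem_centralizer_singleton_iff]
      calc t * b = (t * a * t⁻¹) * (t * t) * a * t⁻¹ := by rw [hb]; group
        _ = (t * a * t⁻¹) * a * t⁻¹ := by rw [ht2, mul_one]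
        _ = b * t⁻¹ := by rw [hb, hab.eq]
        _ = b * t := by rw [hti]
    rw [hcent b hbA hb1] at htb
    have ho : orderOf t = 2 := CIT.orderOf_two ht2 fun e => hw1 (Subtype.ext e)
    have hd := Subgroup.orderOf_dvd_natCard A htb
    rw [ho, hAc] at hd
    exact Nat.not_even_iff_odd.mpr hodd (even_iff_two_dvd.mpr hd)
  obtain ⟨⟨w1, hw1m⟩, hw1⟩ : ∃ w : (W : Subgroup ↥(Subgroup.normalizer (A : Set (Gp F m)))), w ≠ 1 := by
    haveI : Nontrivial (W : Subgroup ↥(Subgroup.normalizer (A : Set (Gp F m)))) :=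
      Finite.one_lt_card_iff_nontrivial.mp (by rw [hW]; norm_num)
    exact exists_ne 1
  obtain ⟨⟨w2, hw2m⟩, hw2, hw21⟩ : ∃ w : (W : Subgroup ↥(Subgroup.normalizer (A : Set (Gp F m)))),
      w ≠ 1 ∧ w ≠ ⟨w1, hw1m⟩ := by
    by_contra h
    push Not at h
    haveI := Fintype.ofFinite (W : Subgroup ↥(Subgroup.normalizer (A : Set (Gp F m))))
    have := (Finset.card_le_card (s := (Finset.univ : Finset _))
      (t := ({1, ⟨w1, hw1m⟩} : Finset (W : Subgroup ↥(Subgroup.normalizer (A : Set (Gp F m))))))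
      fun w _ => by
        rcases eq_or_ne w 1 with e | e
        · simp [e]
        · simp [h w e]).trans Finset.card_le_two
    rw [Finset.card_univ, ← Nat.card_eq_fintype_card, hW] at this
    omega
  obtain ⟨a, ha, ha1⟩ := (Subgroup.bot_or_exists_ne_one A).resolve_left hA1
  have h1 := hinv w1 hw1m (fun e => hw1 (Subtype.ext e)) a ha
  have h2 := hinv w2 hw2m (fun e => hw2 (Subtype.ext e)) a ha
  set p : Gp F m := (w1 : Gp F m) * (w2 : Gp F m) with hp
  have hpc : p ∈ Subgroup.centralizer ({a} : Set (Gp F m)) := by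
    rw [Subgroup.mem_centralizer_singleton_iff]
    have e : p * a * p⁻¹ = a := by
      calc p * a * p⁻¹ = (w1 : Gp F m) * ((w2 : Gp F m) * a * (w2 : Gp F m)⁻¹) * (w1 : Gp F m)⁻¹ := by
            rw [hp]; group
        _ = a := by rw [h2, ← conj_inv, h1, inv_inv]
    exact mul_inv_eq_iff_eq_mul.mp e
  rw [hcent a ha ha1] at hpc
  have hp2 : p * p = 1 := congrArg Subtype.val (hsq (w1 * w2) (mul_mem hw1m hw2m))
  have hp1 : p ≠ 1 := fun e => hw21 (Subtype.ext (Subtype.ext (by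
    show (w2 : Gp F m) = (w1 : Gp F m)
    have e1 : (w1 : Gp F m) * w1 = 1 := congrArg Subtype.val (hsq w1 hw1m)
    exact mul_left_cancel ((e : (w1 : Gp F m) * w2 = 1).trans e1.symm))))
  have hd := Subgroup.orderOf_dvd_natCard A hpc
  rw [CIT.orderOf_two hp2 hp1, hAc] at hd
  exact Nat.not_even_iff_odd.mpr hodd (even_iff_two_dvd.mpr hd)

/-- A Suzuki quotient forces a trivial two-core. -/
theorem suz_absurd (hTO : TO G) (hcit : CIT.IsCIT G) (N : Subgroup G) [N.Normal] (hN : IsPGroup 2 N)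
    (hne : N ≠ ⊥) {F : Type} [Field F] [Fintype F] [CharP F 2] {m : ℕ} [Param F m]
    (e : G ⧸ N ≃* Gp F m) : False := by
  classical
  haveI : Fact (Nat.Prime 2) := ⟨Nat.prime_two⟩
  obtain ⟨A, y, hA1, hAodd, hy, hyA, hcent⟩ := exists_four_normalizer (F := F) (m := m)
  set V := CNStruct.omegaCenter N with hV
  let φ : G ⧸ N →* MulAut V := QuotientGroup.lift N (MulAut.conjNormal (H := V)) fun q hq => by
    refine MulEquiv.ext fun a => Subtype.ext ?_
    rw [MulAut.conjNormal_apply, MulAut.one_apply, a.2.2.1 q hq, mul_inv_cancel_right]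
  have hφ : ∀ g : G, φ (g : G ⧸ N) = MulAut.conjNormal (H := V) g := fun g => rfl
  set T := A.map e.symm.toMonoidHom with hT
  set x := e.symm y with hx
  have hxo : orderOf x = 4 := (e.symm.orderOf_eq y).trans hy
  have hTc : Nat.card T = Nat.card A :=
    Nat.card_congr (Subgroup.equivMapOfInjective A e.symm.toMonoidHom e.symm.injective).symm.toEquiv
  have hmem : ∀ {c : G ⧸ N}, c ∈ T → e c ∈ A := by
    rintro c ⟨a, ha, rfl⟩
    simpa using ha
  have hVN : V ≤ N := fun v hv => hv.1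
  have hν : ∀ b ∈ T, ∀ a : V, ∏ i ∈ Finset.range 4, φ (b * x ^ i * b⁻¹) a = 1 := by
    intro b _ a
    obtain ⟨z, hz⟩ := QuotientGroup.mk_surjective (b * x * b⁻¹)
    have hzo : orderOf (b * x * b⁻¹) = 4 := by
      rw [show b * x * b⁻¹ = MulAut.conj b x from rfl, MulEquiv.orderOf_eq, hxo]
    have h4 : ∀ g : G, (g : G ⧸ N) = b * x * b⁻¹ → g ^ 4 = 1 := fun g hg => by
      refine pow_four_eq_one hTO hcit (Dvd.dvd.trans ?_ (orderOf_map_dvd (QuotientGroup.mk' N) g))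
      show 2 ∣ orderOf (g : G ⧸ N)
      rw [hg, hzo]
      norm_num
    have e1 := pow_mul_eq_norm a z 4
    rw [h4 z hz, mul_one, h4 ((a : G) * z) (by
      rw [QuotientGroup.mk_mul, (QuotientGroup.eq_one_iff _).mpr (hVN a.2), one_mul, hz])] at e1
    refine Eq.trans (Finset.prod_congr rfl fun i _ => ?_) (Subtype.ext e1.symm)
    rw [← conj_pow, ← hz, ← QuotientGroup.mk_pow, hφ]
  have hkey : ∀ c ∈ T, ∀ a : V, φ c a = a := fun c hc a => by
    refine centralizes_of_norm φ x 4 (by norm_num) T (fun c hc => ?_) (fun i hi hi4 c hc hic => ?_) hν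
      ?_ hc a
    · refine ⟨y * e c * y⁻¹, hyA _ (hmem hc), ?_⟩
      simp [hx]
    · by_contra hc1
      have h1 : y ^ i ∈ Subgroup.centralizer ({e c} : Set (Gp F m)) := by
        rw [Subgroup.mem_centralizer_singleton_iff]
        have h2 := congrArg e (mul_inv_eq_iff_eq_mul.mp hic)
        rw [map_mul, map_mul, map_pow, hx, e.apply_symm_apply] at h2
        exact h2
      rw [hcent (e c) (hmem hc) (fun h => hc1 (e.injective (h.trans e.map_one.symm)))] at h1
      have h3 : y ^ i = 1 := by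
        refine CIT.eq_one_of_odd_two (hAodd.of_dvd_nat (Subgroup.orderOf_dvd_natCard A h1)) (k := 2) ?_
        rw [← pow_mul, mul_comm, pow_mul, show (2 : ℕ) ^ 2 = orderOf y by rw [hy]; norm_num,
          pow_orderOf_eq_one, one_pow]
      have := Nat.le_of_dvd hi (orderOf_dvd_of_pow_eq_one h3)
      omega
    · obtain ⟨k, hk⟩ := (hN.to_le hVN).exists_card_eq
      rw [hk, hTc]
      exact (Nat.coprime_two_left.mpr hAodd).pow_left k
  obtain ⟨a, ha, ha1⟩ := (Subgroup.bot_or_exists_ne_one A).resolve_left hA1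
  obtain ⟨g, hg, hgo, hg1⟩ := CfsgLib.SuzMod.odd_lift (e.toMonoidHom.comp (QuotientGroup.mk' N))
    (e.surjective.comp (QuotientGroup.mk'_surjective N))
    (by rw [show (e.toMonoidHom.comp (QuotientGroup.mk' N)).ker = N by ext; simp]; exact hN)
    (hAodd.of_dvd_nat (Subgroup.orderOf_dvd_natCard A ha)) ha1
  obtain ⟨⟨v, hv⟩, hv1⟩ := Subgroup.ne_bot_iff_exists_ne_one.1 (CNStruct.omegaCenter_ne_bot N hN hne)
  refine hv1 (Subtype.ext (fpf_two hcit hN hgo hg1 (hVN hv) ?_))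
  have e1 := congrArg Subtype.val (hkey (g : G ⧸ N) ⟨a, ha, by
    show e.symm a = (g : G ⧸ N)
    rw [← hg]
    simp⟩ ⟨v, hv⟩)
  rwa [hφ, MulAut.conjNormal_apply] at e1

/-- The conclusion when the prime two is isolated. -/
theorem cit_conclusion (hTO : TO G) (hcit : CIT.IsCIT G) (hns : ¬ Group.IsSolvable G) :
    (∃ (F : Type) (_ : Field F) (_ : Fintype F), CharP F 2 ∧ 4 ≤ Fintype.card F ∧
        (Fintype.card F + 1).primeFactorsList.length ≤ 2 ∧ (Fintype.card F - 1).primeFactorsList.length ≤ 2 ∧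
        Nonempty (G ⧸ Cfsg.pCore 2 G ≃* Matrix.ProjectiveSpecialLinearGroup (Fin 2) F)) ∨
    (∃ (F : Type) (_ : Field F) (_ : Fintype F), (Fintype.card F = 7 ∨ Fintype.card F = 9) ∧
        Nonempty (G ≃* Matrix.ProjectiveSpecialLinearGroup (Fin 2) F)) ∨
    (∃ (F : Type) (_ : Field F) (_ : Fintype F), Fintype.card F = 4 ∧
        Nonempty (G ≃* Matrix.ProjectiveSpecialLinearGroup (Fin 3) F)) ∨
    (∃ n : ℕ, 1 ≤ n ∧ IsSimpleGroup G ∧
        Nat.card G = (2 ^ (2 * n + 1)) ^ 2 * ((2 ^ (2 * n + 1)) ^ 2 + 1) * (2 ^ (2 * n + 1) - 1) ∧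
        (2 ^ (2 * n + 1) - 1).primeFactorsList.length ≤ 2 ∧
        (2 ^ (2 * n + 1) - 2 ^ (n + 1) + 1).primeFactorsList.length ≤ 2 ∧
        (2 ^ (2 * n + 1) + 2 ^ (n + 1) + 1).primeFactorsList.length ≤ 2) := by
  classical
  haveI : Fact (Nat.Prime 2) := ⟨Nat.prime_two⟩
  haveI := Fitting.pCore_normal (G := G) 2
  have hN : IsPGroup 2 (Cfsg.pCore 2 G) := Fitting.pCore_isPGroup 2
  have hfpf : ∀ x : G, Odd (orderOf x) → x ≠ 1 → ∀ q ∈ Cfsg.pCore 2 G, x * q * x⁻¹ = q → q = 1 :=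
    fun x hx hx1 q hq h => fpf_two hcit hN hx hx1 hq h
  have hQns : ¬ Group.IsSolvable (G ⧸ Cfsg.pCore 2 G) := fun hs => hns
    (RealClassGraph.solvable_of_normal _ (CIT.isSolvable_of_two hN) hs)
  have hQ : TO (G ⧸ Cfsg.pCore 2 G) := hTO.quotient _
  have no9 : Cfsg.pCore 2 G ≠ ⊥ → ∀ {M : Type} [Group M] (j : G ⧸ Cfsg.pCore 2 G ≃* M),
      (∃ a b : M, a ^ 3 = 1 ∧ b ^ 3 = 1 ∧ a * b = b * a ∧ a ≠ 1 ∧ b ≠ 1 ∧ a * b ≠ 1 ∧
        a * (b * b) ≠ 1) → False := by
    rintro hne M _ j ⟨a, b, h1, h2, h3, h4, h5, h6, h7⟩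
    refine CNStruct.no_nine (Cfsg.pCore 2 G) hN hne hfpf (j.symm a) (j.symm b) ?_ ?_ ?_ ?_ ?_ ?_ ?_
    all_goals first
      | rw [← map_mul, ← map_mul, h3]
      | simp only [← map_pow, ← map_mul, ne_eq, map_eq_one_iff _ j.symm.injective, h1, h2, h4, h5,
          h6, h7, map_one, not_false_eq_true]
  have down : Cfsg.pCore 2 G = ⊥ → ∀ {M : Type} [Group M],
      (G ⧸ Cfsg.pCore 2 G ≃* M) → Nonempty (G ≃* M) := fun hb => fun j =>
    ⟨(((QuotientGroup.quotientMulEquivOfEq hb).trans QuotientGroup.quotientBot).symm).trans j⟩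
  rcases shape_of_cit hQ (CIT.cit_quotient' hcit) hQns CIT.pCore_quotient_eq_bot with
    ⟨F, i1, i2, n, hn, hF, ⟨e⟩⟩ | ⟨F, i1, i2, hF, ⟨e⟩⟩ | ⟨F, i1, i2, hF, ⟨e⟩⟩ | ⟨F, i1, i2, i3, m, i4, ⟨e⟩⟩
  · refine Or.inl ⟨F, i1, i2, CIT.charP_two_of_card hF, ?_, ?_, ?_, ⟨e⟩⟩
    · rw [hF, show 4 = 2 ^ 2 by norm_num]
      exact Nat.pow_le_pow_right two_pos hn
    · obtain ⟨x, hx⟩ := (CIT.order_iff_two_pow hn hF (2 ^ n + 1)).mpr (Or.inr (Or.inr dvd_rfl))
      rw [hF, ← hx, ← e.symm.orderOf_eq x]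
      exact hQ.length_le _
    · obtain ⟨x, hx⟩ := (CIT.order_iff_two_pow hn hF (2 ^ n - 1)).mpr (Or.inr (Or.inl dvd_rfl))
      rw [hF, ← hx, ← e.symm.orderOf_eq x]
      exact hQ.length_le _
  · refine Or.inr (Or.inl ⟨F, i1, i2, hF, down ?_ e⟩)
    by_contra hne
    rcases hF with h7 | h9
    · haveI : Fact (Nat.Prime 7) := ⟨by norm_num⟩
      obtain ⟨e7⟩ := BrauerTuan.psl_congr (F := ZMod 7) (K := F) (by rw [h7, ZMod.card])
      exact CNStruct.no_psl (Cfsg.pCore 2 G) hN hne hfpf le_rfl (e7.trans e.symm).toMonoidHom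
        (MulEquiv.injective _)
    · exact no9 hne e (CNStruct.psl_nine_pair h9)
  · refine Or.inr (Or.inr (Or.inl ⟨F, i1, i2, hF, down ?_ e⟩))
    by_contra hne
    exact no9 hne e (CNStruct.psl_three_four_pair hF)
  · haveI := i3
    haveI := i4
    obtain ⟨e0⟩ := down (by_contra fun hne => suz_absurd hTO hcit _ hN hne e) e
    haveI := Suzuki.isSimpleGroup_gp (F := F) (m := m)
    haveI : Nontrivial G := e0.toEquiv.nontrivial
    have hord : ∀ g : Gp F m, (orderOf g).primeFactorsList.length ≤ 2 := fun g => by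
      rw [← e0.symm.orderOf_eq g]
      exact hTO.length_le _
    have htor : ∀ j ∈ ({2 ^ (2 * m + 1) + 2 ^ (m + 1) + 1,
        2 ^ (2 * m + 1) - 2 ^ (m + 1) + 1} : Set ℕ), j.primeFactorsList.length ≤ 2 := by
      intro j hj
      obtain ⟨A, hA, hAc, -, -⟩ := Suzuki.tori F m j hj
      obtain ⟨g, hg⟩ := IsCyclic.exists_generator (α := A)
      rw [← hAc, ← orderOf_eq_card_of_forall_mem_zpowers hg, ← Subgroup.orderOf_coe]
      exact hord _
    refine Or.inr (Or.inr (Or.inr ⟨m, i4.one_le, ?_, ?_, ?_, htor _ (Or.inr rfl), htor _ (Or.inl rfl)⟩))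
    · exact IsSimpleGroup.isSimpleGroup_of_surjective e0.symm.toMonoidHom e0.symm.surjective
    · rw [Nat.card_congr e0.toEquiv, Suzuki.natCard_group, i4.card]
    · obtain ⟨t, ht⟩ := IsCyclic.exists_generator (α := Fˣ)
      have := hord (Suzuki.gH t)
      rwa [orderOf_injective _ Suzuki.gH_injective, orderOf_eq_card_of_forall_mem_zpowers ht,
        Nat.card_eq_fintype_card, Fintype.card_units, i4.card] at this

end CfsgLib.ThreeOrders
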