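import Mathlib
import Cfsg.Agent.Lib.ThreeOrders.Odd
import Cfsg.Agent.Lib.MinNormal.SimpleConjugates
import Cfsg.Agent.Lib.CIT.Iso
import Cfsg.Agent.Lib.SL2.Klein
import Cfsg.Agent.Lib.SL2.PGLMax.Embed
import Cfsg.Agent.S2475
import Cfsg.Agent.S2476
import Cfsg.Agent.S0330
import Cfsg.Agent.S4593
import Cfsg.Agent.S0813
import Cfsg.Agent.Lib.CIT.PSLTwoGraph
import Cfsg.Agent.Lib.Suzuki.LieEquiv

/-!
# The socle in the mixed case and its index
-/

set_option autoImplicit false
set_option linter.unusedSectionVars false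
set_option linter.style.haveILetI false

open scoped IsMulCommutative MatrixGroups

namespace CfsgLib.ThreeOrders

universe u

/-- The classification of the simple groups in the mixed case, as a hypothesis. -/
def TwoQList : Prop :=
  ∀ (H : Type u) [Group H] [Finite H] [IsSimpleGroup H], ¬ IsMulCommutative H → ∀ q : ℕ, TwoQ H q →
    ∃ (F : Type) (_ : Field F) (_ : Fintype F), Odd (Fintype.card F) ∧
      Nonempty (H ≃* Matrix.ProjectiveSpecialLinearGroup (Fin 2) F)

variable {G : Type u} [Group G] [Finite G]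

theorem exists_third_prime {H : Subgroup G} (hH : ¬ Group.IsSolvable H) {r : ℕ} (hr : r.Prime) :
    ∃ (s : ℕ) (x : G), x ∈ H ∧ s.Prime ∧ s ≠ 2 ∧ s ≠ r ∧ orderOf x = s := by
  by_contra hno
  push Not at hno
  have hall : ∀ p : ℕ, p.Prime → p ∣ Nat.card H → p ≠ 2 → p = r := by
    intro p hp hd hp2
    by_contra hpr
    haveI := Fact.mk hp
    obtain ⟨⟨x, hx⟩, ho⟩ := exists_prime_orderOf_dvd_card' p hd
    rw [Subgroup.orderOf_mk] at ho
    exact hno p x hx hp hp2 hpr ho
  rcases eq_or_ne r 2 with rfl | hr2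
  · refine hH (CIT.isSolvable_of_two (IsPGroup.iff_card.2
      ⟨_, Nat.eq_prime_pow_of_unique_prime_dvd Nat.card_pos.ne' fun {p} hp hd => ?_⟩))
    by_contra hp2
    exact hp2 (hall p hp hd hp2)
  refine hH (Cfsg.Agent.S0144.result 2 r ((Nat.card H).factorization 2)
    ((Nat.card H).factorization r) Nat.prime_two hr ?_)
  have h0 : Nat.card H ≠ 0 := Nat.card_pos.ne'
  refine Nat.eq_of_factorization_eq h0 (mul_ne_zero (pow_ne_zero _ two_ne_zero)
    (pow_ne_zero _ hr.ne_zero)) fun p => ?_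
  rw [Nat.factorization_mul (pow_ne_zero _ two_ne_zero) (pow_ne_zero _ hr.ne_zero),
    Nat.prime_two.factorization_pow, hr.factorization_pow, Finsupp.add_apply,
    Finsupp.single_apply, Finsupp.single_apply]
  rcases eq_or_ne p 2 with rfl | hp2
  · simp [hr2]
  rcases eq_or_ne p r with rfl | hpr
  · simp [Ne.symm hp2]
  · simp only [Ne.symm hp2, Ne.symm hpr, ↓reduceIte, add_zero]
    by_cases hp : p.Prime
    · exact Nat.factorization_eq_zero_of_not_dvd fun hd => hpr (hall p hp hd hp2)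
    · exact Nat.factorization_eq_zero_of_not_prime _ hp

theorem TwoQ.not_centralized {q : ℕ} (h : TwoQ G q) {H : Subgroup G} (hH : ¬ Group.IsSolvable H)
    {t : G} (ht : orderOf t = 2) (hc : ∀ x ∈ H, Commute t x) : False := by
  obtain ⟨s, x, hx, hs, hs2, hsq, hxo⟩ := exists_third_prime hH h.prime
  exact hsq (h.commute_two ht hs hs2 hxo (hc x hx))

/-- No nontrivial solvable normal subgroup. -/
theorem solvable_normal_eq_bot {q : ℕ} (hTO : TO G) (h : TwoQ G q) (hns : ¬ Group.IsSolvable G)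
    {R : Subgroup G} [R.Normal] (hR : Group.IsSolvable R) : R = ⊥ := by
  classical
  by_contra hR1
  haveI : Fact (Nat.Prime 2) := ⟨Nat.prime_two⟩
  obtain ⟨r, A, hr, hAn, hA1, -, hAr, -⟩ := exists_abelian_normal hR hR1
  haveI := hAn
  haveI := Fact.mk hr
  rcases eq_or_ne r 2 with rfl | hr2
  · set C := Subgroup.centralizer (A : Set G) with hC
    haveI : C.Normal := ⟨fun c hc g => Subgroup.mem_centralizer_iff.mpr fun w hw => by
      have e := Subgroup.mem_centralizer_iff.mp hc _ (hAn.conj_mem w hw g⁻¹)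
      rw [inv_inv] at e
      calc w * (g * c * g⁻¹) = g * (g⁻¹ * w * g * c) * g⁻¹ := by group
        _ = g * (c * (g⁻¹ * w * g)) * g⁻¹ := by rw [e]
        _ = g * c * g⁻¹ * w := by group⟩
    obtain ⟨T⟩ : Nonempty (Sylow 2 G) := inferInstance
    have hAT : A ≤ (T : Subgroup G) := (Fitting.le_pCore hAn hAr).trans (CIT.pCore_le_sylow T)
    have hTC : (T : Subgroup G) ≤ C := fun g hg => Subgroup.mem_centralizer_iff.mpr fun w hw =>
      h.mem_comm T.2 (hAT hw) hg
    have hodd : Odd (Nat.card (G ⧸ C)) := by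
      rw [← Subgroup.index_eq_card, ← Nat.not_even_iff_odd, even_iff_two_dvd]
      exact fun hd => T.not_dvd_index (hd.trans (Subgroup.index_dvd_of_le hTC))
    have hCns : ¬ Group.IsSolvable C := fun hs =>
      hns (RealClassGraph.solvable_of_normal C hs (RealClassGraph.solvable_of_odd hodd))
    obtain ⟨t, htA, ht, ht1⟩ := CIT.exists_invol hAr hA1
    exact h.not_centralized hCns (CIT.orderOf_two ht ht1) fun x hx =>
      Subgroup.mem_centralizer_iff.mp hx t htA
  · obtain ⟨k, hk⟩ := hAr.exists_card_eq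
    exact hA1 (odd_normal_eq_bot hTO h hns (hk ▸ (hr.odd_of_ne_two hr2).pow))

/-- A simple normal subgroup with trivial centralizer. -/
theorem exists_simple_socle {q : ℕ} (hTO : TO G) (h : TwoQ G q) (hns : ¬ Group.IsSolvable G) :
    ∃ N : Subgroup G, N.Normal ∧ IsSimpleGroup N ∧ ¬ IsMulCommutative N ∧
      Subgroup.centralizer (N : Set G) = ⊥ := by
  classical
  haveI : Nontrivial G := by
    by_contra hn
    rw [not_nontrivial_iff_subsingleton] at hn
    exact hns (Group.isSolvable_of_comm fun a b => Subsingleton.elim _ _)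
  obtain ⟨M, hMn, -, hM1, hmin⟩ := CIT.exists_minimal_normal_le
    (inferInstance : (⊤ : Subgroup G).Normal) top_ne_bot
  haveI := hMn
  have hMns : ¬ Group.IsSolvable M := fun hs => hM1 (solvable_normal_eq_bot hTO h hns hs)
  have hna : ¬ IsMulCommutative M := fun hc =>
    hMns (Group.isSolvable_of_comm fun a b => hc.is_comm.comm a b)
  have hmin' : ∀ N : Subgroup G, N.Normal → N ≠ ⊥ → N ≤ M → N = M := fun N hN h1 h2 =>
    (hmin N hN h2).resolve_left h1
  obtain ⟨L, d⟩ := MinNormal.exists_simpleConjugates hmin' hna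
  have hLns : ∀ g, ¬ Group.IsSolvable (MinNormal.cj L g) := by
    intro g hs
    haveI := d.simple_cj g
    exact d.nab_cj g ⟨⟨fun a b => IsSimpleGroup.comm_iff_isSolvable.mpr hs a b⟩⟩
  have hone : ∀ g, MinNormal.cj L g = MinNormal.cj L 1 := by
    intro g
    by_contra hne
    obtain ⟨t, ht, htt, ht1⟩ := CIT.exists_invol_of_not_solvable (hLns 1)
    exact h.not_centralized (hLns g) (CIT.orderOf_two htt ht1) fun x hx =>
      (Subgroup.mem_centralizer_iff.mp (d.le_centralizer (Ne.symm hne) hx) t ht)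
  have hML : M = L := by
    rw [← d.sup]
    refine le_antisymm (iSup_le fun g => ?_) ((MinNormal.cj_one L).symm.le.trans (le_iSup (MinNormal.cj L) 1))
    rw [hone, MinNormal.cj_one]
  refine ⟨M, hMn, hML ▸ d.simple, hna, ?_⟩
  haveI : (Subgroup.centralizer (M : Set G)).Normal := Subgroup.normal_centralizer
  by_contra hC
  have hCns : ¬ Group.IsSolvable (Subgroup.centralizer (M : Set G)) := fun hs =>
    hC (solvable_normal_eq_bot hTO h hns hs)
  obtain ⟨t, ht, htt, ht1⟩ := CIT.exists_invol_of_not_solvable hCns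
  exact h.not_centralized hMns (CIT.orderOf_two htt ht1) fun x hx =>
    (Subgroup.mem_centralizer_iff.mp ht x hx).symm

theorem psl_card_ge_four {F : Type} [Field F] [Fintype F] {H : Type*} [Group H] [Finite H]
    (hH : ¬ Group.IsSolvable H) (e : H ≃* Matrix.ProjectiveSpecialLinearGroup (Fin 2) F) :
    4 ≤ Fintype.card F := by
  by_contra hlt
  have h2 : 2 ≤ Fintype.card F := Fintype.one_lt_card
  have hc := SL2.card_PSL (F := F)
  rw [← Nat.card_congr e.toEquiv, Nat.card_eq_fintype_card (α := F)] at hc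
  rcases (show Fintype.card F = 2 ∨ Fintype.card F = 3 by omega) with e2 | e3
  · rw [e2] at hc
    norm_num at hc
    exact hH (Cfsg.Agent.S0144.result 2 3 1 1 Nat.prime_two Nat.prime_three (by rw [hc]; norm_num))
  · rw [e3] at hc
    norm_num at hc
    exact hH (Cfsg.Agent.S0144.result 2 3 2 1 Nat.prime_two Nat.prime_three (by omega))

/-- The simple normal subgroup in the mixed case. -/
theorem simple_cases (hlist : TwoQList.{u}) {q : ℕ} (hTO : TO G) (h : TwoQ G q) (N : Subgroup G)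
    [IsSimpleGroup N] (hna : ¬ IsMulCommutative N) :
    ∃ (F : Type) (_ : Field F) (_ : Fintype F) (p f : ℕ), p.Prime ∧ CharP F p ∧ 1 ≤ f ∧
      Fintype.card F = p ^ f ∧ 4 ≤ p ^ f ∧ (p = 2 ∨ p ^ f % 8 = 3 ∨ p ^ f % 8 = 5) ∧
      Nonempty (N ≃* Matrix.ProjectiveSpecialLinearGroup (Fin 2) F) := by
  classical
  haveI : Fact (Nat.Prime 2) := ⟨Nat.prime_two⟩
  have hns : ¬ Group.IsSolvable N := fun hs =>
    hna ⟨⟨fun a b => IsSimpleGroup.comm_iff_isSolvable.mpr hs a b⟩⟩
  have hne : ∃ a b : N, a * b ≠ b * a := by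
    by_contra hc
    push Not at hc
    exact hna ⟨⟨hc⟩⟩
  have h4 : ∀ x : N, orderOf x ≠ 4 := fun x hx => by
    rw [← Subgroup.orderOf_coe] at hx
    have e := h.two_elt (k := 2) (g := (x : G)) (by rw [show 2 ^ 2 = 4 from rfl, ← hx, pow_orderOf_eq_one])
    have := Nat.le_of_dvd two_pos (orderOf_dvd_of_pow_eq_one (show (x : G) ^ 2 = 1 by rw [pow_two, e]))
    omega
  obtain ⟨F, iF, fF, ⟨e⟩⟩ : ∃ (F : Type) (_ : Field F) (_ : Fintype F),
      Nonempty (N ≃* Matrix.ProjectiveSpecialLinearGroup (Fin 2) F) := by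
    rcases (hTO.subgroup N).cases with hcit | ⟨q', hq'⟩
    · rcases CIT.classification_iso hne hcit with ⟨F, iF, fF, -, he⟩ | ⟨F, iF, fF, hF, ⟨e⟩⟩ | hSz
      · exact ⟨F, iF, fF, he⟩
      · haveI : CharP F 2 := CIT.charP_two_of_card (m := 2) (by rw [hF]; norm_num)
        obtain ⟨y, hy⟩ : ∃ y : Matrix.ProjectiveSpecialLinearGroup (Fin 3) F, orderOf y = 4 := by
          have : 4 ∈ Set.range (orderOf : Matrix.ProjectiveSpecialLinearGroup (Fin 3) F → ℕ) := by
            rw [Cfsg.Agent.S2476.result 2]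
            exact Or.inr (Or.inr (Or.inr (Or.inr ⟨rfl, dvd_rfl⟩)))
          exact this
        exact absurd ((e.symm.orderOf_eq y).trans hy) (h4 _)
      · obtain ⟨F, iF, fF, m, hm, hF, ⟨e⟩⟩ := hSz
        exfalso
        haveI := CIT.charP_two_of_card hF
        haveI : Suzuki.Param F m := ⟨hm, hF⟩
        obtain ⟨P⟩ : Nonempty (Sylow 2 (Cfsg.Sz F m)) := inferInstance
        exact suzuki_four hm hF (e.trans (Suzuki.lieEquiv (F := F) (m := m)).symm) h P
    · obtain ⟨F, iF, fF, -, he⟩ := hlist N hna q' hq'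
      exact ⟨F, iF, fF, he⟩
  obtain ⟨f, hp, hf⟩ := FiniteField.card F (ringChar F)
  haveI := Fact.mk hp
  have hge := psl_card_ge_four hns e
  refine ⟨F, iF, fF, ringChar F, f, hp, inferInstance, f.2, hf, hf ▸ hge, ?_, ⟨e⟩⟩
  rw [← hf]
  by_contra hcon
  push Not at hcon
  have hodd : Fintype.card F % 2 = 1 := SL2.card_mod_two_eq_one hcon.1
  have h8 : Fintype.card F % 8 = 1 ∨ Fintype.card F % 8 = 7 := by omega
  have hg : Nat.gcd 2 (Fintype.card F - 1) = 2 := Nat.gcd_eq_left (by omega)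
  have : 4 ∈ Set.range (orderOf : Matrix.ProjectiveSpecialLinearGroup (Fin 2) F → ℕ) := by
    rw [Cfsg.Agent.S2475.result (ringChar F) hge]
    rcases h8 with h8 | h8
    · exact Or.inr (Or.inl (by rw [hg]; omega))
    · exact Or.inr (Or.inr (by rw [hg]; omega))
  obtain ⟨y, hy⟩ := this
  exact h4 _ ((e.symm.orderOf_eq y).trans hy)
where
  suzuki_four {q m : ℕ} {N : Subgroup G} {F : Type} [Field F] [Fintype F] (hm : 1 ≤ m)
      (hF : Fintype.card F = 2 ^ (2 * m + 1)) (e : N ≃* ↥(Cfsg.Sz F m))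
      (h : TwoQ G q) (P : Sylow 2 (Cfsg.Sz F m)) : False := by
    haveI : Fact (Nat.Prime 2) := ⟨Nat.prime_two⟩
    have hexp : Monoid.exponent P = 4 := (Cfsg.Agent.S0330.result hm hF P).2.1
    have h2 : Monoid.exponent P ∣ 2 := by
      refine Monoid.exponent_dvd_of_forall_pow_eq_one fun g => ?_
      obtain ⟨k, hk⟩ := P.2 g
      have hk' : ((e.symm (g : ↥(Cfsg.Sz F m)) : N) : G) ^ 2 ^ k = 1 := by
        rw [← Subgroup.coe_pow, ← map_pow, ← Subgroup.coe_pow, hk, Subgroup.coe_one, map_one,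
          Subgroup.coe_one]
      have := h.two_elt hk'
      rw [← Subgroup.coe_mul, OneMemClass.coe_eq_one, ← map_mul,
        map_eq_one_iff _ e.symm.injective, ← Subgroup.coe_mul, OneMemClass.coe_eq_one] at this
      rw [pow_two]
      exact this
    rw [hexp] at h2
    norm_num at h2

/-- Involutions of `PSL₂` are conjugate. -/
theorem psl_invol_conj {F : Type} [Field F] [Finite F]
    {c d : Matrix.ProjectiveSpecialLinearGroup (Fin 2) F} (hc : orderOf c = 2) (hd : orderOf d = 2) :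
    ∃ g, g * c * g⁻¹ = d := by
  have hsq : ∀ {x : Matrix.ProjectiveSpecialLinearGroup (Fin 2) F}, orderOf x = 2 → x * x = 1 ∧ x ≠ 1 :=
    fun {x} hx => ⟨by
      rw [← pow_two]
      exact orderOf_dvd_iff_pow_eq_one.mp (dvd_of_eq hx), fun e => by simp [e] at hx⟩
  rcases Nat.even_or_odd (Nat.card F) with heven | hodd
  · haveI := Fintype.ofFinite F
    have h2 : ringChar F = 2 := FiniteField.even_card_iff_char_two.mpr
      (Nat.even_iff.mp (Nat.card_eq_fintype_card (α := F) ▸ heven))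
    haveI : CharP F 2 := h2 ▸ ringChar.charP F
    have hz : Subgroup.center (SL(2, F)) = ⊥ := Subgroup.card_eq_one.mp (by
      rw [SL2.card_center]
      refine Nat.coprime_two_left.mpr ?_
      obtain ⟨k, hk⟩ := heven
      have := Nat.card_pos (α := F)
      exact ⟨k - 1, by omega⟩)
    have hlift : ∀ {x : Matrix.ProjectiveSpecialLinearGroup (Fin 2) F}, orderOf x = 2 →
        ∃ g : SL(2, F), SL2.proj g = x ∧ SL2.NonScalar (g : Matrix (Fin 2) (Fin 2) F) ∧
          (g : Matrix (Fin 2) (Fin 2) F).trace = 0 := by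
      intro x hx
      obtain ⟨g, rfl⟩ := SL2.proj_surjective x
      have hgg : g * g = 1 := by
        have := (SL2.proj_eq_one_iff (g * g)).mp (by rw [map_mul, (hsq hx).1])
        rwa [hz, Subgroup.mem_bot] at this
      have hns : SL2.NonScalar (g : Matrix (Fin 2) (Fin 2) F) := by
        by_contra hn
        exact (hsq hx).2 ((SL2.proj_eq_one_iff g).mpr ((SL2.mem_center_iff_not_nonScalar g).mpr hn))
      refine ⟨g, rfl, hns, ?_⟩
      have e := SL2.coe_inv_eq g
      rw [inv_eq_of_mul_eq_one_right hgg, eq_sub_iff_add_eq] at e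
      have e00 := congrFun (congrFun e 0) 0
      simpa [CharTwo.add_self_eq_zero] using e00.symm
    obtain ⟨g, rfl, hgn, hgt⟩ := hlift hc
    obtain ⟨k, rfl, hkn, hkt⟩ := hlift hd
    obtain ⟨l, hl⟩ := SL2.isConj_of_trace hgn hkn (hgt.trans hkt.symm) (Or.inr h2)
    exact ⟨SL2.proj l, by rw [← map_inv, ← map_mul, ← map_mul, hl]⟩
  · exact SL2.invol_conj hodd (hsq hc) (hsq hd)

theorem exists_power {N : Subgroup G} [N.Normal] {u : G} {l : ℕ} (hl : l.Prime)
    (hu : orderOf (u : G ⧸ N) = l) : ∃ (m i : ℕ), 1 ≤ i ∧ orderOf (u ^ m) = l ^ i ∧ u ^ m ∉ N := by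
  have hd : l ∣ orderOf u := hu ▸ orderOf_map_dvd (QuotientGroup.mk' N) u
  obtain ⟨i, m, hm, he⟩ := Nat.exists_eq_pow_mul_and_not_dvd (orderOf_pos u).ne' l hl.one_lt.ne'
  have hi : 1 ≤ i := Nat.one_le_iff_ne_zero.mpr fun e => hm (by rwa [he, e, pow_zero, one_mul] at hd)
  refine ⟨m, i, hi, ?_, fun hmem => ?_⟩
  · rw [orderOf_pow_of_dvd (show m ≠ 0 from fun e => hm (by rw [e]; exact dvd_zero l))
      (he ▸ dvd_mul_left m _), he,
      Nat.mul_div_cancel _ (show 0 < m from Nat.pos_of_ne_zero fun e => hm (by rw [e]; exact dvd_zero l))]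
  · rw [← QuotientGroup.eq_one_iff, QuotientGroup.mk_pow, ← orderOf_dvd_iff_pow_eq_one, hu] at hmem
    exact hm hmem

theorem q_pow_eq {q : ℕ} (h : TwoQ G q) {x : G} {i : ℕ} (hi : 1 ≤ i) (hx : orderOf x = q ^ i) :
    orderOf x = q := by
  rcases h.qq x (hx ▸ dvd_pow_self q (by omega)) with e | e
  · exact e
  · have h2 : 2 ∣ q ^ i := hx ▸ e ▸ dvd_mul_right 2 q
    exact absurd ((Nat.prime_dvd_prime_iff_eq Nat.prime_two h.prime).mp
      (Nat.prime_two.dvd_of_dvd_pow h2)).symm h.ne_two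

/-- In the mixed case `G` is simple. -/
theorem socle_eq_top (hlist : TwoQList.{u}) {q : ℕ} (hTO : TO G) (h : TwoQ G q) (N : Subgroup G)
    [N.Normal] [IsSimpleGroup N] (hna : ¬ IsMulCommutative N)
    (hC : Subgroup.centralizer (N : Set G) = ⊥) : N = ⊤ := by
  classical
  haveI : Fact (Nat.Prime 2) := ⟨Nat.prime_two⟩
  obtain ⟨F, iF, fF, p, f, hp, hchar, hf1, hF, hF4, hF8, ⟨e⟩⟩ := simple_cases hlist hTO h N hna
  haveI := Fact.mk hp
  haveI := hchar
  have hns : ¬ Group.IsSolvable N := fun hs =>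
    hna ⟨⟨fun a b => IsSimpleGroup.comm_iff_isSolvable.mpr hs a b⟩⟩
  -- the index is odd
  have hodd : ¬ 2 ∣ N.index := by
    intro hd
    rw [Subgroup.index_eq_card] at hd
    obtain ⟨yb, hyb⟩ := exists_prime_orderOf_dvd_card' 2 hd
    obtain ⟨y, rfl⟩ := QuotientGroup.mk_surjective yb
    obtain ⟨m, i, -, hxo', hxN'⟩ := exists_power Nat.prime_two hyb
    obtain ⟨P⟩ : Nonempty (Sylow 2 N) := inferInstance
    obtain ⟨Q, hQ⟩ := (P.2.map N.subtype).exists_le_sylow
    obtain ⟨T, hT⟩ := (IsPGroup.of_card (n := i)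
      (by rw [Nat.card_zpowers, hxo']) : IsPGroup 2 (Subgroup.zpowers (y ^ m))).exists_le_sylow
    obtain ⟨g₀, hg₀⟩ := MulAction.exists_smul_eq G T Q
    set x := g₀ * y ^ m * g₀⁻¹ with hx
    have hxQ : x ∈ (Q : Subgroup G) := by
      rw [← hg₀]
      exact ⟨y ^ m, hT (Subgroup.mem_zpowers _), rfl⟩
    have hxo : orderOf x = 2 ^ i := by
      rw [hx, show g₀ * y ^ m * g₀⁻¹ = MulAut.conj g₀ (y ^ m) from rfl, MulEquiv.orderOf_eq, hxo']
    have hxN : x ∉ N := fun hh => hxN' (by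
      have := ‹N.Normal›.conj_mem x hh g₀⁻¹
      simpa [hx, mul_assoc] using this)
    have hPT : ∀ g : N, g ∈ (P : Subgroup N) → Commute x (g : G) := fun g hg =>
      h.mem_comm Q.2 hxQ (hQ ⟨g, hg, rfl⟩)
    have hord : ∃ j, orderOf (MulAut.conjNormal (H := N) x) = 2 ^ j := by
      obtain ⟨j, -, hj⟩ := (Nat.dvd_prime_pow Nat.prime_two).mp
        (hxo ▸ orderOf_map_dvd (MulAut.conjNormal (H := N)) x)
      exact ⟨j, hj⟩
    have hab : IsMulCommutative (P : Subgroup N) := ⟨⟨fun a b => Subtype.ext (Subtype.ext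
      (h.mem_comm (P.2.map N.subtype) ⟨_, a.2, rfl⟩ ⟨_, b.2, rfl⟩))⟩⟩
    have hZ : Subgroup.center N = ⊥ :=
      (Subgroup.center N).normal_of_characteristic.eq_bot_or_eq_top.resolve_right fun e =>
        hna ⟨⟨fun a b => (Subgroup.mem_center_iff.mp (e ▸ Subgroup.mem_top a) b).symm⟩⟩
    have hcore : Cfsg.pPrimeCore 2 N = ⊥ := by
      haveI := Transfer.pPrimeCore_normal 2 N
      refine (inferInstance : (Cfsg.pPrimeCore 2 N).Normal).eq_bot_or_eq_top.resolve_right fun e => ?_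
      have := Transfer.not_dvd_card_pPrimeCore (G := N) (p := 2)
      rw [e, Subgroup.card_top] at this
      exact hns (RealClassGraph.solvable_of_odd (Nat.not_even_iff_odd.mp fun he => this he.two_dvd))
    obtain ⟨g, hg⟩ := Cfsg.Agent.S4593.result hZ hcore P hab _ hord fun a ha => Subtype.ext (by
      rw [MulAut.conjNormal_apply]
      exact mul_inv_eq_iff_eq_mul.mpr (hPT a ha).eq)
    have hmem : (g : G)⁻¹ * x ∈ Subgroup.centralizer (N : Set G) := by
      rw [Subgroup.mem_centralizer_iff]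
      intro w hw
      have e1 := congrArg Subtype.val (hg ⟨w, hw⟩)
      rw [MulAut.conjNormal_apply] at e1
      simp only [Subgroup.coe_mul, Subgroup.coe_inv] at e1
      calc w * ((g : G)⁻¹ * x) = (g : G)⁻¹ * ((g : G) * w * (g : G)⁻¹) * x := by group
        _ = (g : G)⁻¹ * (x * w * x⁻¹) * x := by rw [e1]
        _ = _ := by group
    rw [hC, Subgroup.mem_bot, inv_mul_eq_one] at hmem
    exact hxN (hmem ▸ g.2)
  by_contra hN
  have hidx : N.index ≠ 1 := fun e => hN (Subgroup.index_eq_one.mp e)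
  -- every prime of the index is `q`
  have hlq : ∀ l : ℕ, l.Prime → l ∣ N.index → l = q := by
    intro l hl hd
    haveI := Fact.mk hl
    have hl2 : l ≠ 2 := fun e => hodd (e ▸ hd)
    obtain ⟨⟨t, htN⟩, ht⟩ := exists_prime_orderOf_dvd_card' (G := N) 2 (by
      by_contra h2
      exact hns (RealClassGraph.solvable_of_odd (Nat.not_even_iff_odd.mp fun he => h2 he.two_dvd)))
    rw [Subgroup.index_eq_card] at hd
    obtain ⟨yb, hyb⟩ := exists_prime_orderOf_dvd_card' l hd
    obtain ⟨y, rfl⟩ := QuotientGroup.mk_surjective yb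
    have ht' : orderOf (⟨y * t * y⁻¹, ‹N.Normal›.conj_mem t htN y⟩ : N) = 2 := by
      rw [← Subgroup.orderOf_coe]
      show orderOf (MulAut.conj y t) = 2
      rw [MulEquiv.orderOf_eq]
      exact (Subgroup.orderOf_coe ⟨t, htN⟩).trans ht
    obtain ⟨g, hg⟩ := psl_invol_conj (c := e ⟨y * t * y⁻¹, ‹N.Normal›.conj_mem t htN y⟩)
      (d := e ⟨t, htN⟩) (by rw [MulEquiv.orderOf_eq, ht']) (by rw [MulEquiv.orderOf_eq, ht])
    obtain ⟨a, rfl⟩ := e.surjective g
    rw [← map_inv, ← map_mul, ← map_mul] at hg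
    have hg' : (a : G) * (y * t * y⁻¹) * (a : G)⁻¹ = t := congrArg Subtype.val (e.injective hg)
    have hu : Commute ((a : G) * y) t := by
      refine mul_inv_eq_iff_eq_mul.mp ?_
      calc (a : G) * y * t * ((a : G) * y)⁻¹ = (a : G) * (y * t * y⁻¹) * (a : G)⁻¹ := by group
        _ = t := hg'
    have hub : orderOf ((((a : G) * y : G)) : G ⧸ N) = l := by
      rw [QuotientGroup.mk_mul, (QuotientGroup.eq_one_iff _).mpr a.2, one_mul, hyb]
    obtain ⟨m, i, hi, hxo, -⟩ := exists_power hl hub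
    have ht2 : orderOf t = 2 := by rw [← ht, Subgroup.orderOf_mk]
    have ho : orderOf (t * ((a : G) * y) ^ m) = 2 * l ^ i := by
      rw [(hu.pow_left m).symm.orderOf_mul_eq_mul_orderOf_of_coprime, ht2, hxo]
      rw [ht2, hxo]
      exact Nat.coprime_two_left.mpr (hl.odd_of_ne_two hl2).pow
    rcases h.two _ (ho ▸ dvd_mul_right 2 _) with e2 | e2 <;> rw [ho] at e2
    · have := Nat.le_self_pow (show i ≠ 0 by omega) l
      have := hl.two_le
      omega
    · have e3 : l ^ i = q := Nat.eq_of_mul_eq_mul_left two_pos e2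
      exact (Nat.prime_dvd_prime_iff_eq hl h.prime).mp (e3 ▸ dvd_pow_self l (by omega))
  -- the index divides the field degree
  have hif : N.index ∣ f := by
    have hinj : Function.Injective (MulAut.conjNormal (H := N) : G →* MulAut N) := by
      rw [← MonoidHom.ker_eq_bot_iff, eq_bot_iff, ← hC]
      intro x hx
      rw [Subgroup.mem_centralizer_iff]
      intro w hw
      have e1 := congrArg Subtype.val (DFunLike.congr_fun (MonoidHom.mem_ker.mp hx) ⟨w, hw⟩)
      rw [MulAut.conjNormal_apply] at e1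
      exact (mul_inv_eq_iff_eq_mul.mp e1).symm
    have h1 := Subgroup.card_dvd_of_injective _ hinj
    rw [Nat.card_congr (MulAut.congr e).toEquiv,
      Cfsg.Agent.S0813.result p f hf1 hF 2 le_rfl (fun _ => hF4), if_pos rfl, one_mul,
      SL2.PGLMax.card_pgl] at h1
    have hc := SL2.card_PSL (F := F)
    rw [← hc, ← Nat.card_congr e.toEquiv, ← N.index_mul_card, ← mul_assoc] at h1
    have h2 : N.index ∣ f * Nat.gcd 2 (Nat.card F - 1) :=
      Nat.dvd_of_mul_dvd_mul_right Nat.card_pos h1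
    refine Nat.Coprime.dvd_of_dvd_mul_right ?_ h2
    exact Nat.Coprime.coprime_dvd_right (Nat.gcd_dvd_left _ _)
      (Nat.coprime_two_right.mpr (Nat.odd_iff.mpr (by omega)))
  obtain ⟨l, hl, hld⟩ := Nat.exists_prime_and_dvd hidx
  obtain rfl : l = q := hlq l hl hld
  have hqf : l ∣ f := hld.trans hif
  have hspec : ∀ M : ℕ, M ∣ (p ^ f - 1) / Nat.gcd 2 (p ^ f - 1) ∨
      M ∣ (p ^ f + 1) / Nat.gcd 2 (p ^ f - 1) → ∃ x : N, orderOf x = M := by
    intro M hM
    have h1 : M ∈ Set.range (orderOf : Matrix.ProjectiveSpecialLinearGroup (Fin 2) F → ℕ) := by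
      rw [Cfsg.Agent.S2475.result p (hF ▸ hF4), Set.mem_setOf_eq, hF]
      exact Or.inr hM
    obtain ⟨x, hx⟩ := h1
    exact ⟨e.symm x, (e.symm.orderOf_eq x).trans hx⟩
  rcases hF8 with rfl | hF8
  · -- even field
    have hg : Nat.gcd 2 (2 ^ f - 1) = 1 := CIT.gcd_two_pow_sub_one hf1
    simp only [hg, Nat.div_one] at hspec
    have hl2 : l ≠ 2 := h.ne_two
    have h3 : 3 ∣ 2 ^ f - 1 ∨ 3 ∣ 2 ^ f + 1 := by
      have e1 : 2 ^ f % 3 = 1 ∨ 2 ^ f % 3 = 2 := by
        have : ¬ 3 ∣ 2 ^ f := fun hd => by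
          have := Nat.le_of_dvd two_pos (Nat.prime_three.dvd_of_dvd_pow hd); omega
        omega
      omega
    rcases eq_or_ne l 3 with rfl | hl3
    · -- an element of order nine
      obtain ⟨k, rfl⟩ := hqf
      have h63 : 63 ∣ (2 ^ (3 * k) - 1) * (2 ^ (3 * k) + 1) := by
        have e1 : (2 ^ (3 * k) - 1) * (2 ^ (3 * k) + 1) = 64 ^ k - 1 ^ k := by
          rw [one_pow, show (64 : ℕ) ^ k = (2 ^ (3 * k)) ^ 2 by rw [← pow_mul, show (64 : ℕ) = 2 ^ 6 from rfl, ← pow_mul]; ring_nf]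
          rw [mul_comm, ← Nat.sq_sub_sq, one_pow]
        rw [e1]
        exact Nat.sub_dvd_pow_sub_pow 64 1 k
      have h9 : 9 ∣ 2 ^ (3 * k) - 1 ∨ 9 ∣ 2 ^ (3 * k) + 1 := by
        rcases h3 with h3 | h3
        · refine Or.inl (Nat.Coprime.dvd_of_dvd_mul_right ?_ ((by norm_num : 9 ∣ 63).trans h63))
          rw [show (9 : ℕ) = 3 ^ 2 from rfl]
          refine Nat.Coprime.pow_left 2 ((Nat.prime_three.coprime_iff_not_dvd).mpr fun hd => ?_)
          omega
        · refine Or.inr (Nat.Coprime.dvd_of_dvd_mul_left ?_ ((by norm_num : 9 ∣ 63).trans h63))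
          rw [show (9 : ℕ) = 3 ^ 2 from rfl]
          refine Nat.Coprime.pow_left 2 ((Nat.prime_three.coprime_iff_not_dvd).mpr fun hd => ?_)
          omega
      obtain ⟨x, hx⟩ := hspec 9 h9
      rw [← Subgroup.orderOf_coe] at hx
      rcases h.qq (x : G) (by rw [hx]; norm_num) with e1 | e1 <;> rw [hx] at e1 <;> omega
    · -- an element of order `3 l`
      exact three_mul_order h N e hF hg h3 hspec hl3 hld
  · -- odd field
    have hp2 : p ≠ 2 := by
      rintro rfl
      have : 2 ∣ 2 ^ f := dvd_pow_self 2 (by omega)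
      omega
    have hg : Nat.gcd 2 (p ^ f - 1) = 2 := Nat.gcd_eq_left (by omega)
    simp only [hg] at hspec
    rcases eq_or_ne (p ^ f) 5 with h5 | h5
    · rcases Nat.eq_or_lt_of_le hf1 with rfl | hlt
      · exact h.prime.one_lt.ne' (Nat.dvd_one.mp hqf)
      · have := Nat.pow_le_pow_right hp.pos hlt
        have := Nat.pow_le_pow_left hp.two_le 2
        rw [h5] at *
        have : p ≤ 2 := by nlinarith
        have := hp.two_le
        omega
    obtain ⟨M, hM, hM2, hM4⟩ : ∃ M, (M ∣ (p ^ f - 1) / 2 ∨ M ∣ (p ^ f + 1) / 2) ∧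
        2 ∣ M ∧ (p ^ f ≤ 2 * M + 1 ∧ 2 < M) := by
      rcases hF8 with h8 | h8
      · exact ⟨(p ^ f + 1) / 2, Or.inr dvd_rfl, by omega, by omega⟩
      · exact ⟨(p ^ f - 1) / 2, Or.inl dvd_rfl, by omega, by omega⟩
    obtain ⟨x, hx⟩ := hspec M hM
    rw [← Subgroup.orderOf_coe] at hx
    have hMq : M = 2 * l := by
      rcases h.two (x : G) (hx ▸ hM2) with e1 | e1 <;> rw [hx] at e1
      · omega
      · exact e1
    have hfl : l ≤ f := Nat.le_of_dvd hf1 hqf
    have hp3 : 3 ≤ p := by have := hp.two_le; omega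
    have hl3 : 3 ≤ l := by have := h.prime.two_le; have := h.ne_two; omega
    have hgrow : 4 * f + 1 < 3 ^ f := by
      have h27 : ∀ j, 4 * (j + 3) + 1 < 3 ^ (j + 3) := by
        intro j
        induction j with
        | zero => norm_num
        | succ j ih => rw [show j + 1 + 3 = (j + 3) + 1 from rfl, pow_succ]; omega
      obtain ⟨j, rfl⟩ : ∃ j, f = j + 3 := ⟨f - 3, by omega⟩
      exact h27 j
    have := Nat.pow_le_pow_left hp3 f
    omega
where
  three_mul_order {l f : ℕ} {F : Type} [Field F] [Fintype F] (h : TwoQ G l) (N : Subgroup G)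
      [N.Normal] (e : N ≃* Matrix.ProjectiveSpecialLinearGroup (Fin 2) F)
      (hFc : Fintype.card F = 2 ^ f) (hg : Nat.gcd 2 (2 ^ f - 1) = 1) (h3 : 3 ∣ 2 ^ f - 1 ∨ 3 ∣ 2 ^ f + 1)
      (hspec : ∀ M : ℕ, M ∣ 2 ^ f - 1 ∨ M ∣ 2 ^ f + 1 → ∃ x : N, orderOf x = M)
      (hl3 : l ≠ 3) (hld : l ∣ N.index) : False := by
    classical
    haveI : Fact (Nat.Prime 3) := ⟨Nat.prime_three⟩
    haveI := Fact.mk h.prime
    obtain ⟨M, hM, hM3, hcard⟩ : ∃ M, (M ∣ 2 ^ f - 1 ∨ M ∣ 2 ^ f + 1) ∧ 3 ∣ M ∧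
        ∃ r, ¬ 3 ∣ r ∧ Nat.card N = M * r := by
      have hc : Nat.card N = Nat.card F * ((Nat.card F - 1) * (Nat.card F + 1)) := by
        have hc := SL2.card_PSL (F := F)
        rw [Nat.card_eq_fintype_card (α := F), hFc, hg, one_mul] at hc
        rw [Nat.card_congr e.toEquiv, hc, Nat.card_eq_fintype_card (α := F), hFc]
      rw [Nat.card_eq_fintype_card (α := F), hFc] at hc
      have h23 : ¬ 3 ∣ 2 ^ f := fun hd => by
        have := Nat.le_of_dvd two_pos (Nat.prime_three.dvd_of_dvd_pow hd)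
        omega
      rcases h3 with h3 | h3
      · refine ⟨_, Or.inl dvd_rfl, h3, 2 ^ f * (2 ^ f + 1), ?_, by rw [hc]; ring⟩
        rw [Nat.prime_three.dvd_mul]
        omega
      · refine ⟨_, Or.inr dvd_rfl, h3, 2 ^ f * (2 ^ f - 1), ?_, by rw [hc]; ring⟩
        rw [Nat.prime_three.dvd_mul]
        omega
    obtain ⟨r, hr, hNc⟩ := hcard
    obtain ⟨g, hgo⟩ := hspec M hM
    obtain ⟨k, m, hm, hMk⟩ := Nat.exists_eq_pow_mul_and_not_dvd
      (show M ≠ 0 from hgo ▸ (orderOf_pos g).ne') 3 (by norm_num)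
    have hm0 : m ≠ 0 := fun e => hm (by rw [e]; exact dvd_zero 3)
    have hr0 : r ≠ 0 := fun e => hr (by rw [e]; exact dvd_zero 3)
    have hzo : orderOf (g ^ m) = 3 ^ k := by
      rw [orderOf_pow_of_dvd hm0 (hgo ▸ hMk ▸ dvd_mul_left m _), hgo, hMk,
        Nat.mul_div_cancel _ (Nat.pos_of_ne_zero hm0)]
    set z := g ^ m
    obtain ⟨S, hS⟩ := (IsPGroup.of_card (n := k) (by rw [Nat.card_zpowers, hzo]) :
      IsPGroup 3 (Subgroup.zpowers z)).exists_le_sylow
    have hScard : Nat.card (S : Subgroup N) = 3 ^ k := by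
      rw [S.card_eq_multiplicity, hNc, hMk, mul_assoc]
      congr 1
      rw [Nat.factorization_mul (pow_ne_zero _ (by norm_num)) (mul_ne_zero hm0 hr0)]
      rw [Finsupp.add_apply, Nat.factorization_eq_zero_of_not_dvd (n := m * r) (p := 3)
        (fun hd => (Nat.prime_three.dvd_mul.mp hd).elim hm hr), Nat.prime_three.factorization_pow]
      simp
    have hSz : (S : Subgroup N) = Subgroup.zpowers z :=
      (Subgroup.eq_of_le_of_card_ge hS (by rw [hScard, Nat.card_zpowers, hzo])).symm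
    have hk1 : 1 ≤ k := Nat.one_le_iff_ne_zero.mpr fun e0 => hm (by
      rwa [hMk, e0, pow_zero, one_mul] at hM3)
    set σ := z ^ 3 ^ (k - 1) with hσ
    have hσo : orderOf σ = 3 := by
      rw [hσ, orderOf_pow_of_dvd (by positivity) (hzo ▸ pow_dvd_pow 3 (Nat.sub_le k 1)), hzo,
        Nat.pow_div (Nat.sub_le k 1) (by norm_num), show k - (k - 1) = 1 by omega, pow_one]
    have huniq : ∀ w : N, w ∈ (S : Subgroup N) → orderOf w = 3 → w ∈ Subgroup.zpowers σ := by
      intro w hw hwo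
      rw [hSz] at hw
      obtain ⟨j, rfl⟩ := hw
      have h1 : ((orderOf z : ℕ) : ℤ) ∣ j * 3 := by
        rw [orderOf_dvd_iff_zpow_eq_one, zpow_mul, show ((3 : ℤ)) = ((3 : ℕ) : ℤ) from rfl,
          zpow_natCast, ← hwo, pow_orderOf_eq_one]
      rw [hzo, show (3 : ℕ) ^ k = 3 ^ (k - 1) * 3 by rw [← pow_succ]; congr 1; omega] at h1
      push_cast at h1
      obtain ⟨c, rfl⟩ := Int.dvd_of_mul_dvd_mul_right (by norm_num) h1
      refine ⟨c, ?_⟩
      show σ ^ c = z ^ _
      rw [hσ, ← zpow_natCast, ← zpow_mul]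
      push_cast
      rfl
    rw [Subgroup.index_eq_card] at hld
    obtain ⟨yb, hyb⟩ := exists_prime_orderOf_dvd_card' l hld
    obtain ⟨y, rfl⟩ := QuotientGroup.mk_surjective yb
    set w : N := ⟨y * σ * y⁻¹, ‹N.Normal›.conj_mem σ σ.2 y⟩ with hw
    have hwo : orderOf w = 3 := by
      rw [← Subgroup.orderOf_coe]
      show orderOf (MulAut.conj y (σ : G)) = 3
      rw [MulEquiv.orderOf_eq, Subgroup.orderOf_coe, hσo]
    obtain ⟨S', hS'⟩ := (IsPGroup.of_card (n := 1) (by rw [Nat.card_zpowers, hwo, pow_one]) :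
      IsPGroup 3 (Subgroup.zpowers w)).exists_le_sylow
    obtain ⟨a, ha⟩ := MulAction.exists_smul_eq N S' S
    obtain ⟨j, hj⟩ := huniq (a * w * a⁻¹) (ha ▸ ⟨w, hS' (Subgroup.mem_zpowers w), rfl⟩)
      (by rw [show a * w * a⁻¹ = MulAut.conj a w from rfl, MulEquiv.orderOf_eq, hwo])
    set u := (a : G) * y with hu
    have hconj : u * σ * u⁻¹ = (σ : G) ^ j := by
      have e1 := congrArg Subtype.val hj
      simp only [Subgroup.coe_zpow, Subgroup.coe_mul, Subgroup.coe_inv] at e1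
      rw [e1, hu]
      show _ = (a : G) * (y * σ * y⁻¹) * (a : G)⁻¹
      group
    have hub : orderOf ((u : G) : G ⧸ N) = l := by
      rw [hu, QuotientGroup.mk_mul, (QuotientGroup.eq_one_iff _).mpr a.2, one_mul, hyb]
    obtain ⟨m', i, hi, hxo, -⟩ := exists_power h.prime hub
    have hxq : orderOf (u ^ m') = l := q_pow_eq h hi hxo
    set x := u ^ m'
    have hxn : ∀ v ∈ Subgroup.zpowers (σ : G), x * v * x⁻¹ ∈ Subgroup.zpowers (σ : G) := by
      have h1 : ∀ (n : ℕ), ∀ v ∈ Subgroup.zpowers (σ : G),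
          u ^ n * v * (u ^ n)⁻¹ ∈ Subgroup.zpowers (σ : G) := by
        intro n
        induction n with
        | zero => intro v hv; simpa using hv
        | succ n ih =>
          intro v hv
          obtain ⟨c, hc⟩ := ih v hv
          refine ⟨j * c, ?_⟩
          show (σ : G) ^ (j * c) = _
          rw [zpow_mul, ← hconj, conj_zpow,
            show (σ : G) ^ c = u ^ n * v * (u ^ n)⁻¹ from hc, pow_succ']
          group
      exact h1 m'
    have hσG : orderOf (σ : G) = 3 := by rw [Subgroup.orderOf_coe, hσo]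
    have hσ3 : (σ : G) ^ 3 = 1 := by rw [← hσG, pow_orderOf_eq_one]
    have hcases : ∀ v ∈ Subgroup.zpowers (σ : G), v ≠ 1 → v = σ ∨ v = (σ : G)⁻¹ := by
      intro v hv hv1
      obtain ⟨c, hc, rfl⟩ : ∃ c, c < orderOf (σ : G) ∧ (σ : G) ^ c = v := by
        rw [mem_zpowers_iff_mem_range_orderOf] at hv
        simpa using hv
      rw [hσG] at hc
      interval_cases c
      · simp at hv1
      · exact Or.inl (pow_one _)
      · exact Or.inr (eq_inv_of_mul_eq_one_left (by rw [← pow_succ, hσ3]))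
    have hσ1 : (σ : G) ≠ 1 := fun e1 => by
      rw [e1, orderOf_one] at hσG
      norm_num at hσG
    have hcomm : Commute x (σ : G) := by
      rcases hcases _ (hxn _ (Subgroup.mem_zpowers _)) (fun e1 => hσ1 (conj_eq_one_iff.mp e1)) with e1 | e1
      · exact mul_inv_eq_iff_eq_mul.mp e1
      · exfalso
        have h2 : ∀ n : ℕ, x ^ n * σ * (x ^ n)⁻¹ = (σ : G) ^ ((-1 : ℤ) ^ n) := by
          intro n
          induction n with
          | zero => simp
          | succ n ih =>
            rw [pow_succ' x, show x * x ^ n * σ * (x * x ^ n)⁻¹ = x * (x ^ n * σ * (x ^ n)⁻¹) * x⁻¹ by group,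
              ih, ← conj_zpow, e1, inv_zpow', pow_succ, mul_neg_one]
        have h3 := h2 l
        rw [← hxq, pow_orderOf_eq_one, hxq, (h.prime.odd_of_ne_two h.ne_two).neg_one_pow] at h3
        simp only [one_mul, inv_one, mul_one, zpow_neg_one] at h3
        have h4 : (σ : G) ^ 2 = 1 := by
          rw [pow_two]
          nth_rewrite 2 [h3]
          exact mul_inv_cancel _
        have := Nat.le_of_dvd two_pos (orderOf_dvd_of_pow_eq_one h4)
        omega
    have ho : orderOf (x * σ) = l * 3 := by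
      rw [hcomm.orderOf_mul_eq_mul_orderOf_of_coprime, hxq, hσG]
      rw [hxq, hσG]
      exact (Nat.coprime_primes h.prime Nat.prime_three).mpr hl3
    rcases h.qq _ (ho ▸ dvd_mul_right l 3) with e1 | e1 <;> rw [ho] at e1
    · have := h.prime.pos
      omega
    · have := h.prime.pos
      omega

end CfsgLib.ThreeOrders
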