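import Mathlib
import Cfsg.Agent.Lib.ThreeOrders.CaseX
import Cfsg.Agent.Lib.ThreeOrders.Socle
import Cfsg.Agent.Lib.TwoQList.Main

/-!
# The mixed case
-/

set_option autoImplicit false
set_option linter.unusedSectionVars false
set_option linter.style.haveILetI false

namespace CfsgLib.ThreeOrders

variable {G : Type*} [Group G] [Finite G]

/-- With an element of order `2 q` the group is `PSL₂` over a field of `±3 mod 8` elements. -/
theorem mixed_conclusion (hTO : TO G) {q : ℕ} (h : TwoQ G q) (hns : ¬ Group.IsSolvable G) :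
    ∃ (F : Type) (_ : Field F) (_ : Fintype F), 5 < Fintype.card F ∧
      (Fintype.card F % 8 = 3 ∨ Fintype.card F % 8 = 5) ∧
      ((Fintype.card F + 1) / 2).primeFactorsList.length ≤ 2 ∧
      ((Fintype.card F - 1) / 2).primeFactorsList.length ≤ 2 ∧
      Nonempty (G ≃* Matrix.ProjectiveSpecialLinearGroup (Fin 2) F) := by
  classical
  obtain ⟨N, hNn, hNs, hna, hC⟩ := exists_simple_socle hTO h hns
  haveI := hNn
  haveI := hNs
  have htop : N = ⊤ := socle_eq_top TwoQList.twoQList hTO h N hna hC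
  subst htop
  have hN : TwoQ (⊤ : Subgroup G) q := by
    refine ⟨h.prime, h.ne_two, fun g hg => ?_, fun g hg => ?_, ?_⟩
    · rw [← Subgroup.orderOf_coe] at hg ⊢
      exact h.two _ hg
    · rw [← Subgroup.orderOf_coe] at hg ⊢
      exact h.qq _ hg
    · obtain ⟨g, hg⟩ := h.mix
      exact ⟨⟨g, Subgroup.mem_top g⟩, (Subgroup.orderOf_mk g _).trans hg⟩
  obtain ⟨F, i1, i2, hodd, ⟨e⟩⟩ := TwoQList.twoQList (⊤ : Subgroup G) hna q hN
  let e' : G ≃* Matrix.ProjectiveSpecialLinearGroup (Fin 2) F := Subgroup.topEquiv.symm.trans e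
  haveI : Finite (Matrix.ProjectiveSpecialLinearGroup (Fin 2) F) := Finite.of_equiv G e'.toEquiv
  have hge : 4 ≤ Fintype.card F := psl_card_ge_four hns e'
  obtain ⟨k, hp, hk⟩ := FiniteField.card F (ringChar F)
  haveI := Fact.mk hp
  have hspec := Cfsg.Agent.S2475.result (F := F) (ringChar F) hge
  have hg : Nat.gcd 2 (Fintype.card F - 1) = 2 := by
    obtain ⟨m, hm⟩ := hodd
    exact Nat.gcd_eq_left ⟨m, by omega⟩
  rw [hg] at hspec
  have hord : ∀ m, (m ∣ (Fintype.card F - 1) / 2 ∨ m ∣ (Fintype.card F + 1) / 2) →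
      ∃ x : G, orderOf x = m := fun m hm => by
    obtain ⟨y, hy⟩ : m ∈ Set.range
        (orderOf : Matrix.ProjectiveSpecialLinearGroup (Fin 2) F → ℕ) := by
      rw [hspec]; exact Or.inr hm
    exact ⟨e'.symm y, (e'.symm.orderOf_eq y).trans hy⟩
  have hne5 : Fintype.card F ≠ 5 := by
    intro h5
    obtain ⟨x, hx⟩ := h.mix
    have h1 : orderOf x ∈ Set.range
        (orderOf : Matrix.ProjectiveSpecialLinearGroup (Fin 2) F → ℕ) :=
      ⟨e' x, e'.orderOf_eq x⟩
    rw [hspec, hx] at h1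
    have h5p : ringChar F = 5 := by
      have hd : ringChar F ∣ 5 := h5 ▸ hk ▸ dvd_pow_self _ k.pos.ne'
      exact (Nat.prime_dvd_prime_iff_eq hp (by norm_num)).mp hd
    have hq3 : 3 ≤ q := by have := h.prime.two_le; have := h.ne_two; omega
    rcases h1 with h1 | h1 | h1
    · rw [h5p] at h1
      have := Nat.le_of_dvd (by norm_num) h1
      omega
    · rw [h5] at h1
      have := Nat.le_of_dvd (by norm_num) h1
      omega
    · rw [h5] at h1
      have := Nat.le_of_dvd (by norm_num) h1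
      omega
  have h8 : Fintype.card F % 8 = 3 ∨ Fintype.card F % 8 = 5 := by
    by_contra hc
    obtain ⟨m, hm⟩ := hodd
    obtain ⟨x, hx⟩ := hord 4 (by
      rcases (show Fintype.card F % 8 = 1 ∨ Fintype.card F % 8 = 7 by omega) with h8 | h8
      · exact Or.inl (by omega)
      · exact Or.inr (by omega))
    have h2 := h.two_elt (k := 2) (g := x) (orderOf_dvd_iff_pow_eq_one.mp (by rw [hx]; norm_num))
    have := Nat.le_of_dvd two_pos (orderOf_dvd_of_pow_eq_one (show x ^ 2 = 1 by rw [pow_two, h2]))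
    omega
  refine ⟨F, i1, i2, by omega, h8, ?_, ?_, ⟨e'⟩⟩
  · obtain ⟨x, hx⟩ := hord _ (Or.inr dvd_rfl)
    exact hx ▸ hTO.length_le x
  · obtain ⟨x, hx⟩ := hord _ (Or.inl dvd_rfl)
    exact hx ▸ hTO.length_le x

end CfsgLib.ThreeOrders
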